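import Cfsg.Agent.AGraded.Hom
import Cfsg.Agent.ChevalleyStructure.StringMem
import Cfsg.Agent.H135.KTwoB
import Cfsg.Agent.KFacts.RgdChevCoord
import Cfsg.Agent.S1025

/-!
## S2187, nontoral case: homomorphisms from `SL` over locally finite fields (helper46)

* `ker_eq_bot_loc` : `K₂(k) = 0` for locally finite fields `k` (every finite subset lies in a finite subfield);
* `exists_hom_loc` : elements `x i j a` of a group satisfying the Steinberg relations give a homomorphism from
  `SL (Fin (m + 1)) k`, `m ≥ 2`.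

## S2187, nontoral case: the commutator formula for pairs of roots of type `A₂` (helper46)

* `Rt D l v`     : `v` is a root;
* `chain_pair`   : the entries of the chain tables for a pair of roots of type `A₂`;
* `comm_terms_one`, `comm_terms_nil` : the terms of the commutator formula.

## S2187, nontoral case: pairs of roots of type `A₂` (helper46)

* `Pr D l a b` : `a`, `b`, `a + b` are roots, `b - a`, `2a + b`, `a + 2b` are not;
* `NN D l a b` : the structure constant `N_{a,b}`;
* `xc_br`      : `[x_a(t), x_b(u)] = x_{a+b}(N_{a,b} t u)`;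
* `NN_swap`, `NN_neg`, `NN_cyc` : `N_{b,a} = - N_{a,b}`, `N_{-a,a+b} = N_{a,b}`, `N_{a,b} = N_{b,-a-b}`;
* `xc_commute` : commuting root elements.

## S2187, nontoral case: frames of type `A_m` and the homomorphisms `SL (m + 1) k → D.group k` (helper46)

* `AFr D l ev`  : the roots `ev i - ev j` form a root system of type `A_m`;
* `sgn D l ev i j` : signs, such that the `x i j t = x_{ev i - ev j}(± t)` satisfy the Steinberg relations (`steinRel`);
* `exists_hom_afr` : the homomorphism `SL (m + 1) k → D.group k`, `k` locally finite.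
-/

set_option autoImplicit false
set_option linter.unusedSectionVars false

namespace Cfsg.Agent.H46.Gen

universe u w

/-! ### part HomLoc -/

section HomLoc

open Cfsg.Agent.AGraded Matrix Matrix.SpecialLinearGroup
open scoped commutatorElement


section

variable {k : Type u} [Field k] {Γ : Type w} [Group Γ] {m : ℕ}

/-- the elements of a subgroup generated by root elements come from finitely many scalars -/
theorem exists_finite_gens {x : Fin (m + 1) → Fin (m + 1) → k → Γ} {g : Γ} (hg : g ∈ Subgroup.closure (gens x)) :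
    ∃ S : Set k, S.Finite ∧ ∀ T : Set k, S ⊆ T → g ∈ Subgroup.closure {z | ∃ i j, i ≠ j ∧ ∃ a ∈ T, z = x i j a} := by
  induction hg using Subgroup.closure_induction with
  | mem z hz =>
    obtain ⟨i, j, hij, a, rfl⟩ := hz
    exact ⟨{a}, Set.finite_singleton a, fun T hT => Subgroup.subset_closure ⟨i, j, hij, a, hT rfl, rfl⟩⟩
  | one => exact ⟨∅, Set.finite_empty, fun T _ => one_mem _⟩
  | mul a b _ _ ha hb =>
    obtain ⟨S, h1, h2⟩ := ha
    obtain ⟨S', h3, h4⟩ := hb
    exact ⟨S ∪ S', h1.union h3, fun T hT => mul_mem (h2 T (Set.subset_union_left.trans hT))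
      (h4 T (Set.subset_union_right.trans hT))⟩
  | inv a _ ha =>
    obtain ⟨S, h1, h2⟩ := ha
    exact ⟨S, h1, fun T hT => inv_mem (h2 T hT)⟩

theorem map_transvection' {E : Type u} [Field E] (f : E →+* k) {i j : Fin (m + 1)} (hij : i ≠ j) (a : E) :
    SpecialLinearGroup.map f (SpecialLinearGroup.transvection hij a : SpecialLinearGroup (Fin (m + 1)) E) =
      SpecialLinearGroup.transvection hij (f a) := by
  apply Subtype.ext
  rw [SpecialLinearGroup.map_apply_coe, transvection_coe, transvection_coe, RingHom.mapMatrix_apply]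
  ext r s
  rw [Matrix.map_apply, Matrix.add_apply, Matrix.add_apply, map_add, Matrix.one_apply, Matrix.one_apply,
    Matrix.single_apply, Matrix.single_apply]
  congr 1
  · split_ifs
    · exact map_one f
    · exact map_zero f
  · split_ifs
    · rfl
    · exact map_zero f

/-- **`K₂(k) = 0` for locally finite fields** -/
theorem ker_eq_bot_loc (hk : ∀ S : Set k, S.Finite → ∃ E : Subfield k, Finite E ∧ S ⊆ E)
    {x : Fin (m + 1) → Fin (m + 1) → k → Γ} (h : SteinRel x) (hm : 2 ≤ m)
    (hgen : Subgroup.closure (gens x) = ⊤) {φ : Γ →* SpecialLinearGroup (Fin (m + 1)) k}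
    (hφ : ∀ i j (hij : i ≠ j) a, φ (x i j a) = SpecialLinearGroup.transvection hij a) : φ.ker = ⊥ := by
  classical
  rw [eq_bot_iff]
  intro z hz
  rw [MonoidHom.mem_ker] at hz
  rw [Subgroup.mem_bot]
  obtain ⟨S, hS, hS'⟩ := exists_finite_gens (x := x) (g := z) (by rw [hgen]; trivial)
  obtain ⟨E, hE, hSE⟩ := hk S hS
  have hzE := hS' E hSE
  -- the graph
  let X : Fin (m + 1) → Fin (m + 1) → E → Γ × SpecialLinearGroup (Fin (m + 1)) E := fun i j a =>
    (x i j a, if hij : i = j then 1 else SpecialLinearGroup.transvection hij a)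
  have hX : ∀ i j (hij : i ≠ j) (a : E), X i j a = (x i j a, SpecialLinearGroup.transvection hij a) := fun i j hij a => by
    simp only [X, dif_neg hij]
  let Δ : Subgroup (Γ × SpecialLinearGroup (Fin (m + 1)) E) := Subgroup.closure (gens X)
  have hXΔ : ∀ i j, i ≠ j → ∀ a, X i j a ∈ Δ := fun i j hij a => Subgroup.subset_closure ⟨i, j, hij, a, rfl⟩
  let y : Fin (m + 1) → Fin (m + 1) → E → Δ := fun i j a => if hij : i = j then 1 else ⟨X i j a, hXΔ i j hij a⟩
  have hy : ∀ i j (hij : i ≠ j) a, y i j a = ⟨X i j a, hXΔ i j hij a⟩ := fun i j hij a => by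
    simp only [y, dif_neg hij]
  have hmap : ∀ i j (hij : i ≠ j) (a : E), φ (x i j a) =
      SpecialLinearGroup.map E.subtype (SpecialLinearGroup.transvection hij a) := fun i j hij a => by
    rw [hφ i j hij, map_transvection' E.subtype hij a]
    rfl
  have hinj : Function.Injective (SpecialLinearGroup.map (n := Fin (m + 1)) E.subtype) := by
    intro A B hAB
    apply Subtype.ext
    ext r s
    have h1 := congrArg (fun M : SpecialLinearGroup (Fin (m + 1)) k => (M : Matrix _ _ k) r s) hAB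
    simp only [SpecialLinearGroup.map_apply_coe, RingHom.mapMatrix_apply, Matrix.map_apply] at h1
    exact h1
  -- the second components satisfy the relations
  have hadd : ∀ i j (hij : i ≠ j) (a b : E), (SpecialLinearGroup.transvection hij (a + b) :
      SpecialLinearGroup (Fin (m + 1)) E) = SpecialLinearGroup.transvection hij a * SpecialLinearGroup.transvection hij b := by
    intro i j hij a b
    apply hinj
    rw [map_mul, ← hmap, ← hmap, ← hmap, ← map_mul]
    exact congrArg φ (h.add i j hij a b)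
  have hcomm : ∀ i j p q (hij : i ≠ j) (hpq : p ≠ q), j ≠ p → i ≠ q → ∀ a b : E,
      (SpecialLinearGroup.transvection hij a : SpecialLinearGroup (Fin (m + 1)) E) *
        SpecialLinearGroup.transvection hpq b =
      SpecialLinearGroup.transvection hpq b * SpecialLinearGroup.transvection hij a := by
    intro i j p q hij hpq hjp hiq a b
    apply hinj
    rw [map_mul, map_mul, ← hmap, ← hmap, ← map_mul, ← map_mul]
    exact congrArg φ (h.comm i j p q hij hpq hjp hiq a b)
  have hbr : ∀ i j p (hij : i ≠ j) (hjp : j ≠ p) (hip : i ≠ p) (a b : E),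
      ⁅(SpecialLinearGroup.transvection hij a : SpecialLinearGroup (Fin (m + 1)) E),
        SpecialLinearGroup.transvection hjp b⁆ = SpecialLinearGroup.transvection hip (a * b) := by
    intro i j p hij hjp hip a b
    apply hinj
    rw [map_commutatorElement, ← hmap, ← hmap, ← hmap, ← map_commutatorElement]
    exact congrArg φ (h.br i j p hij hjp hip a b)
  have hy' : SteinRel y := by
    refine ⟨?_, ?_, ?_⟩
    · intro i j hij a b
      rw [hy i j hij, hy i j hij, hy i j hij]
      apply Subtype.ext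
      rw [Subgroup.coe_mul]
      change X i j (a + b) = X i j a * X i j b
      rw [hX i j hij, hX i j hij, hX i j hij, Prod.mk_mul_mk, ← hadd i j hij]
      exact congrArg (fun t => (t, _)) (h.add i j hij a b)
    · intro i j p q hij hpq hjp hiq a b
      rw [hy i j hij, hy p q hpq]
      apply Subtype.ext
      rw [Subgroup.coe_mul, Subgroup.coe_mul]
      change X i j a * X p q b = X p q b * X i j a
      rw [hX i j hij, hX p q hpq, Prod.mk_mul_mk, Prod.mk_mul_mk, hcomm i j p q hij hpq hjp hiq]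
      exact congrArg (fun t => (t, _)) (h.comm i j p q hij hpq hjp hiq a b)
    · intro i j p hij hjp hip a b
      rw [hy i j hij, hy j p hjp, hy i p hip]
      apply Subtype.ext
      change ⁅X i j a, X j p b⁆ = X i p (a * b)
      rw [hX i j hij, hX j p hjp, hX i p hip]
      apply Prod.ext
      · change ⁅x i j a, x j p b⁆ = x i p ((a * b : E) : k)
        exact h.br i j p hij hjp hip a b
      · exact hbr i j p hij hjp hip a b
  have hygen : Subgroup.closure (gens y) = ⊤ := by
    rw [eq_top_iff]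
    rintro ⟨g, hg⟩ -
    have hg' : g ∈ Subgroup.closure (gens X) := hg
    induction hg' using Subgroup.closure_induction with
    | mem z hz =>
      obtain ⟨i, j, hij, a, rfl⟩ := hz
      exact Subgroup.subset_closure ⟨i, j, hij, a, (hy i j hij a).symm⟩
    | one => exact one_mem _
    | mul z t hz ht h1 h2 => exact mul_mem (h1 hz) (h2 ht)
    | inv z hz h1 => exact inv_mem (h1 hz)
  let φ' : Δ →* SpecialLinearGroup (Fin (m + 1)) E := (MonoidHom.snd Γ _).comp Δ.subtype
  have hφ' : ∀ i j (hij : i ≠ j) a, φ' (y i j a) = SpecialLinearGroup.transvection hij a := by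
    intro i j hij a
    rw [hy i j hij]
    change (X i j a).2 = _
    rw [hX i j hij]
  have hker := Cfsg.Agent.H135.KTwo.ker_eq_bot_fin hy' hm hygen hφ'
  -- `z` lifts
  have hlift : ∃ s, (z, s) ∈ Δ ∧ φ z = SpecialLinearGroup.map E.subtype s := by
    clear hz hS' hker
    induction hzE using Subgroup.closure_induction with
    | mem w hw =>
      obtain ⟨i, j, hij, a, ha, rfl⟩ := hw
      refine ⟨SpecialLinearGroup.transvection hij (⟨a, ha⟩ : E), ?_, hmap i j hij ⟨a, ha⟩⟩
      have h1 := hXΔ i j hij ⟨a, ha⟩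
      rwa [hX i j hij] at h1
    | one => exact ⟨1, one_mem _, by rw [map_one, map_one]⟩
    | mul a b _ _ ha hb =>
      obtain ⟨s, h1, h2⟩ := ha
      obtain ⟨t, h3, h4⟩ := hb
      exact ⟨s * t, mul_mem h1 h3, by rw [map_mul, map_mul, h2, h4]⟩
    | inv a _ ha =>
      obtain ⟨s, h1, h2⟩ := ha
      exact ⟨s⁻¹, inv_mem h1, by rw [map_inv, map_inv, h2]⟩
  obtain ⟨s, h1, h2⟩ := hlift
  have hs : s = 1 := hinj (by rw [← h2, hz, map_one])
  have h3 : (⟨(z, s), h1⟩ : Δ) ∈ φ'.ker := hs
  rw [hker, Subgroup.mem_bot] at h3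
  exact congrArg (fun t : Δ => (t : Γ × SpecialLinearGroup (Fin (m + 1)) E).1) h3

end

/-- **Homomorphisms from `SL` over a locally finite field.** -/
theorem exists_hom_loc {k : Type u} [Field k] {G : Type w} [Group G] {m : ℕ}
    (hk : ∀ S : Set k, S.Finite → ∃ E : Subfield k, Finite E ∧ S ⊆ E)
    {x : Fin (m + 1) → Fin (m + 1) → k → G} (h : SteinRel x) (hm : 2 ≤ m) :
    ∃ π : SpecialLinearGroup (Fin (m + 1)) k →* G,
      (∀ i j (hij : i ≠ j) a, π (SpecialLinearGroup.transvection hij a) = x i j a) ∧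
      π.range = Subgroup.closure (gens x) ∧
      ((∃ i j, i ≠ j ∧ ∃ a, x i j a ≠ 1) → π.ker ≤ Subgroup.center (SpecialLinearGroup (Fin (m + 1)) k)) :=
  exists_hom_core h (by rw [Fintype.card_fin]; omega)
    fun _ _ hy hygen _ _ hφ _ _ => ker_eq_bot_loc hk hy hm hygen hφ

end HomLoc

/-! ### part Chain -/

section Chain

open CoxeterSystem Cfsg Cfsg.Lie Cfsg.Lie.ChevalleyDatum
open Cfsg.Agent.ChevalleyStructure Cfsg.Agent.ChevalleyStructure.Elts Cfsg.Agent.ChevalleyStructure.RootVec
  Cfsg.Agent.ChevalleyStructure.RootVecTab Cfsg.Agent.ChevalleyStructure.CoxeterGeom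
  Cfsg.Agent.ChevalleyStructure.CoxeterGeomTypes Cfsg.Agent.ChevalleyStructure.NPerm
  Cfsg.Agent.ChevalleyStructure.Strings Cfsg.Agent.ChevalleyStructure.StringMem
open Cfsg.Agent.Nodes.RGDChev Cfsg.Agent.KFacts.RgdChevCoord
open scoped commutatorElement


variable {D : ChevalleyDatum} {l : ℕ} {M : CoxeterMatrix (Fin l)} (hp : IsType D l M)

/-- `v` is a root -/
def Rt (D : ChevalleyDatum) (l : ℕ) (v : Fin l → ℤ) : Prop := ∃ r < D.nroots, vec D l r = v

theorem rt_vec {r : ℕ} (hr : r < D.nroots) : Rt D l (vec D l r) := ⟨r, hr, rfl⟩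

include hp

theorem Rt.neg {v : Fin l → ℤ} (hv : Rt D l v) : Rt D l (-v) := by
  obtain ⟨r, hr, rfl⟩ := hv
  exact ⟨D.neg r, neg_lt hp.checked hr, vec_neg hp hr⟩

/-- additivity of the Cartan integers in the second argument -/
theorem cartanR_add {r s q u : ℕ} (hs : s < D.nroots) (hq : q < D.nroots) (hu : u < D.nroots)
    (e : vec D l q = vec D l s + vec D l u) : cartanR D r q = cartanR D r s + cartanR D r u := by
  have hck := hp.checked
  unfold cartanR
  rw [← Finset.sum_add_distrib]
  refine Finset.sum_congr rfl fun i hi => ?_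
  have hi' := Finset.mem_range.1 hi
  rw [cartan_eq_sum hck hi' hq, cartan_eq_sum hck hi' hs, cartan_eq_sum hck hi' hu, ← mul_add,
    ← Finset.sum_add_distrib]
  congr 1
  refine Finset.sum_congr rfl fun j hj => ?_
  have hj' : j < l := by rw [← hp.rank_eq]; exact Finset.mem_range.1 hj
  have h1 := congrFun e ⟨j, hj'⟩
  rw [Pi.add_apply, vec_apply, vec_apply, vec_apply] at h1
  simp only at h1
  rw [h1]
  ring

theorem chainEntry_vec {r s n : ℕ} {q : ℕ × ℤ} (hq : (D.chainEntry r s)[n]? = some q) :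
    q.1 < D.nroots ∧ vec D l q.1 = vec D l s + ((n + 1 : ℕ) : ℤ) • vec D l r := by
  obtain ⟨h1, -, -, h2⟩ := chainEntry_get hp.checked hq
  refine ⟨h1, ?_⟩
  funext i
  rw [vec_apply, h2, Pi.add_apply, Pi.smul_apply, vec_apply, vec_apply, smul_eq_mul]

/-- the chain entries of a pair of roots of type `A₂` -/
theorem chain_pair {r s q₀ : ℕ} (hr : r < D.nroots) (hs : s < D.nroots) (hq : q₀ < D.nroots)
    (h1 : s ≠ r) (h2 : s ≠ D.neg r) (e : vec D l q₀ = vec D l s + vec D l r)
    (n1 : ¬ Rt D l (vec D l s - vec D l r)) (n2 : ¬ Rt D l (vec D l s + (2 : ℤ) • vec D l r)) :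
    ∃ c : ℤ, (c = 1 ∨ c = -1) ∧ D.chainEntry r s = [(q₀, c)] ∧ D.chainEntry (D.neg r) q₀ = [(s, c)] := by
  have hck := hp.checked
  -- going down
  have down : ∀ (u : ℕ), u < D.nroots → ∀ (q : ℕ) (S : ℕ → ℕ) (E : ℕ → ℤ) (k : ℕ), StringAt D r q S E → k ≤ q →
      S k = u → ∀ m < k, Rt D l (vec D l u - ((m + 1 : ℕ) : ℤ) • vec D l r) := by
    intro u hu q S E k hst hk hSk m hm
    have h3 := hst.down k hk
    have h4 : (D.chainEntry (D.neg r) (S k))[m]? =
        some (S (k - m - 1), E k * E (k - m - 1) * ((q - k + m + 1).choose (m + 1) : ℤ)) := by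
      rw [h3, List.getElem?_map, List.getElem?_range hm]
      rfl
    obtain ⟨h5, h6⟩ := chainEntry_vec hp h4
    refine ⟨_, h5, ?_⟩
    rw [h6, hSk, vec_neg hp hr, smul_neg, sub_eq_add_neg]
  have up : ∀ (q : ℕ) (S : ℕ → ℕ) (E : ℕ → ℤ) (k : ℕ), StringAt D r q S E → k ≤ q →
      ∀ m < q - k, S (k + m + 1) < D.nroots ∧
        vec D l (S (k + m + 1)) = vec D l (S k) + ((m + 1 : ℕ) : ℤ) • vec D l r := by
    intro q S E k hst hk m hm
    have h3 := hst.up k hk
    have h4 : (D.chainEntry r (S k))[m]? =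
        some (S (k + m + 1), E k * E (k + m + 1) * ((k + m + 1).choose (m + 1) : ℤ)) := by
      rw [h3, List.getElem?_map, List.getElem?_range hm]
      rfl
    exact chainEntry_vec hp h4
  obtain ⟨q, S, E, k, hst, hk, hSk, hc⟩ := hasStrings_of_mem hp.inList hr s hs h1 h2
  have hk0 : k = 0 := by
    by_contra h0
    have h3 := down s hs q S E k hst hk hSk 0 (by omega)
    apply n1
    rwa [Nat.zero_add, Nat.cast_one, one_smul] at h3
  subst hk0
  have hq1 : q ≤ 1 := by
    by_contra h0
    obtain ⟨h3, h4⟩ := up q S E 0 hst hk 1 (by omega)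
    apply n2
    refine ⟨_, h3, ?_⟩
    rw [h4, hSk]
    rfl
  have hr0 := (rootOK_of_mem hp.inList hr)
  have hq0 : q ≠ 0 := by
    intro h0
    subst h0
    have e1 : cartanR D r q₀ = 2 := by
      rw [cartanR_add hp hs hq hr e, hc, hr0.cartan_self]
      norm_num
    -- `q₀ ≠ ± r`
    have h3 : q₀ ≠ r := by
      intro h; subst h
      have h4 : vec D l s = 0 := by
        have := e
        nth_rw 1 [← zero_add (vec D l q₀)] at this
        exact (add_right_cancel this).symm
      have h5 : cartanR D q₀ q₀ = cartanR D q₀ s + cartanR D q₀ q₀ := cartanR_add hp hs hq hr e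
      -- `s` is not zero
      have h6 : vec D l (D.neg s) = vec D l s := by rw [vec_neg hp hs, h4, neg_zero]
      have h7 := vec_inj hp (neg_lt hck hs) hs h6
      exact (rootOK_of_mem hp.inList hs).neg_ne h7
    have h4 : q₀ ≠ D.neg r := by
      intro h
      rw [h, cartanR_neg hr0] at e1
      norm_num at e1
    obtain ⟨q', S', E', k', hst', hk', hSk', hc'⟩ := hasStrings_of_mem hp.inList hr q₀ hq h3 h4
    have hk2 : 2 ≤ k' := by
      rw [e1] at hc'
      have := hst'.q_le
      omega
    have h5 := down q₀ hq q' S' E' k' hst' hk' hSk' 1 (by omega)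
    apply n1
    have h6 : vec D l q₀ - ((1 + 1 : ℕ) : ℤ) • vec D l r = vec D l s - vec D l r := by
      rw [e]
      push_cast
      module
    rwa [h6] at h5
  have hq2 : q = 1 := by omega
  subst hq2
  have hS1 : S 1 = q₀ := by
    obtain ⟨h3, h4⟩ := up 1 S E 0 hst hk 0 (by norm_num)
    refine vec_inj hp h3 hq ?_
    rw [e]
    refine h4.trans ?_
    rw [hSk]
    simp
  have hE0 := hst.sign 0 (by norm_num)
  have hE1 := hst.sign 1 le_rfl
  refine ⟨E 0 * E 1, ?_, ?_, ?_⟩
  · rcases hE0 with h | h <;> rcases hE1 with h' | h' <;> rw [h, h'] <;> norm_num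
  · have h3 := hst.up 0 hk
    rw [hSk] at h3
    rw [h3]
    simp [hS1]
  · have h3 := hst.down 1 le_rfl
    rw [hS1] at h3
    rw [h3]
    simp [hSk, mul_comm]

/-- no term of the commutator formula -/
theorem comm_terms_nil {r s : ℕ}
    (h : ∀ m n : ℕ, 0 < m → 0 < n → ¬ Rt D l ((m : ℤ) • vec D l r + (n : ℤ) • vec D l s)) : D.commTerms r s = [] := by
  rcases hL : D.commTerms r s with _ | ⟨⟨u, C, i, j⟩, L⟩
  · rfl
  · exfalso
    have hmem : (u, C, i, j) ∈ D.commTerms r s := by rw [hL]; exact List.mem_cons_self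
    obtain ⟨hu, -, -, hi, hj, hv⟩ := commTerms_rt hp.checked hmem
    refine h i j (by omega) (by omega) ⟨u, hu, ?_⟩
    funext a
    rw [vec_apply, hv, Pi.add_apply, Pi.smul_apply, Pi.smul_apply, smul_eq_mul, smul_eq_mul, vec_apply, vec_apply]

/-- the chain entry in the other direction -/
theorem chainEntry_length_le {r s : ℕ} (n2 : ¬ Rt D l (vec D l s + (2 : ℤ) • vec D l r)) :
    (D.chainEntry r s).length ≤ 1 := by
  by_contra h0
  have h1 : 1 < (D.chainEntry r s).length := by omega
  obtain ⟨h3, h4⟩ := chainEntry_vec hp (List.getElem?_eq_getElem h1)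
  apply n2
  exact ⟨_, h3, by rw [h4]; rfl⟩

/-- one term of the commutator formula -/
theorem comm_terms_one {r s q₀ : ℕ} {c : ℤ} (h : D.chainEntry r s = [(q₀, c)])
    (n2' : ¬ Rt D l (vec D l r + (2 : ℤ) • vec D l s)) : D.commTerms r s = [(q₀, c, 1, 1)] := by
  have hlen : (D.chainEntry s r).length ≤ 1 := chainEntry_length_le hp n2'
  have hroot : ∀ k, 2 ≤ k → D.chainRoot r s k = none := by
    intro k hk
    show ((D.chainEntry r s)[k - 1]?).map Prod.fst = none
    rw [h, List.getElem?_eq_none (by simp; omega)]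
    rfl
  have hroot' : ∀ k, 2 ≤ k → D.chainRoot s r k = none := by
    intro k hk
    show ((D.chainEntry s r)[k - 1]?).map Prod.fst = none
    rw [List.getElem?_eq_none (by omega)]
    rfl
  have hdef : D.commTerms r s = ([ (D.chainRoot r s 1, D.chainM r s 1, 1, 1),
      (D.chainRoot r s 2, D.chainM r s 2, 2, 1),
      (D.chainRoot s r 2, D.chainM s r 2, 1, 2),
      (D.chainRoot r s 3, D.chainM r s 3, 3, 1),
      (D.chainRoot s r 3, - D.chainM s r 3, 1, 3),
      ((D.chainRoot r s 3).bind fun k => D.chainRoot k s 1, ((D.chainRoot r s 1).map fun k => D.chainM k r 2 / 3).getD 0, 3, 2),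
      ((D.chainRoot s r 3).bind fun k => D.chainRoot k r 1, ((D.chainRoot r s 1).map fun k => -2 * D.chainM k s 2 / 3).getD 0, 2, 3) ] :
      List (Option ℕ × ℤ × ℕ × ℕ)).filterMap fun c => c.1.map fun k => (k, c.2) := rfl
  rw [hroot 2 le_rfl, hroot' 2 le_rfl, hroot 3 (by norm_num), hroot' 3 (by norm_num)] at hdef
  have hM : D.chainM r s 1 = (((D.chainEntry r s)[0]?).map Prod.snd).getD 0 := rfl
  have hR : D.chainRoot r s 1 = ((D.chainEntry r s)[0]?).map Prod.fst := rfl
  rw [h] at hR hM
  rw [hdef, hR, hM]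
  simp

end Chain

/-! ### part Pair -/

section Pair

open CoxeterSystem Cfsg Cfsg.Lie Cfsg.Lie.ChevalleyDatum
open Cfsg.Agent.ChevalleyStructure Cfsg.Agent.ChevalleyStructure.Elts Cfsg.Agent.ChevalleyStructure.RootVec
  Cfsg.Agent.ChevalleyStructure.RootVecTab Cfsg.Agent.ChevalleyStructure.CoxeterGeom
  Cfsg.Agent.ChevalleyStructure.CoxeterGeomTypes Cfsg.Agent.ChevalleyStructure.NPerm
  Cfsg.Agent.ChevalleyStructure.Strings Cfsg.Agent.ChevalleyStructure.StringMem
open Cfsg.Agent.Nodes.RGDChev Cfsg.Agent.KFacts.RgdChevCoord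
open scoped commutatorElement


variable {D : ChevalleyDatum} {l : ℕ} {M : CoxeterMatrix (Fin l)} (hp : IsType D l M)

section roots

include hp

theorem not_rt_zero : ¬ Rt D l (0 : Fin l → ℤ) := by
  rintro ⟨r, hr, h⟩
  have h1 : vec D l (D.neg r) = vec D l r := by rw [vec_neg hp hr, h, neg_zero]
  exact (rootOK_of_mem hp.inList hr).neg_ne (vec_inj hp (neg_lt hp.checked hr) hr h1)

theorem Rt.ne_zero {a : Fin l → ℤ} (ha : Rt D l a) : a ≠ 0 := fun h => not_rt_zero hp (h ▸ ha)

theorem not_rt_two {a : Fin l → ℤ} (ha : Rt D l a) : ¬ Rt D l ((2 : ℤ) • a) := by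
  have ha0 := ha.ne_zero hp
  obtain ⟨r, hr, rfl⟩ := ha
  rintro ⟨s, hs, h⟩
  have hr0 := rootOK_of_mem hp.inList hr
  have h1 : s ≠ r := by
    intro e; subst e
    apply ha0
    have : vec D l s + vec D l s = 0 + vec D l s := by rw [← two_smul ℤ, ← h, zero_add]
    exact add_right_cancel this
  have h2 : s ≠ D.neg r := by
    intro e; subst e
    apply ha0
    rw [vec_neg hp hr] at h
    have h3 : (3 : ℤ) • vec D l r = 0 := by
      have : (3 : ℤ) • vec D l r = (2 : ℤ) • vec D l r + vec D l r := by module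
      rw [this, ← h, neg_add_cancel]
    exact (smul_eq_zero.1 h3).resolve_left (by norm_num)
  obtain ⟨q, S, E, k, hst, hk, -, hc⟩ := hasStrings_of_mem hp.inList hr s hs h1 h2
  have h3 : cartanR D r s = cartanR D r r + cartanR D r r := cartanR_add hp hr hs hr (by rw [h, two_smul])
  rw [hr0.cartan_self] at h3
  rw [h3] at hc
  have := hst.q_le
  omega

end roots

/-- pairs of roots of type `A₂` -/
structure Pr (D : ChevalleyDatum) (l : ℕ) (a b : Fin l → ℤ) : Prop where
  ra : Rt D l a
  rb : Rt D l b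
  rs : Rt D l (a + b)
  nd : ¬ Rt D l (b - a)
  n1 : ¬ Rt D l (b + (2 : ℤ) • a)
  n2 : ¬ Rt D l (a + (2 : ℤ) • b)

section pairs

variable {a b : Fin l → ℤ}

include hp

theorem Pr.symm (h : Pr D l a b) : Pr D l b a where
  ra := h.rb
  rb := h.ra
  rs := by rw [add_comm]; exact h.rs
  nd := fun h' => h.nd (by
    have := h'.neg hp
    rwa [neg_sub] at this)
  n1 := h.n2
  n2 := h.n1

theorem Pr.next (h : Pr D l a b) : Pr D l (-a) (a + b) where
  ra := h.ra.neg hp
  rb := h.rs
  rs := by rw [neg_add_cancel_left]; exact h.rb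
  nd := fun h' => h.n1 (by
    have e : b + (2 : ℤ) • a = a + b - -a := by module
    rwa [e])
  n1 := fun h' => h.nd (by
    have e : b - a = a + b + (2 : ℤ) • -a := by module
    rwa [e])
  n2 := fun h' => h.n2 (by
    have e : a + (2 : ℤ) • b = -a + (2 : ℤ) • (a + b) := by module
    rwa [e])

theorem Pr.neg (h : Pr D l a b) : Pr D l (-a) (-b) where
  ra := h.ra.neg hp
  rb := h.rb.neg hp
  rs := by
    have := h.rs.neg hp
    have e : -(a + b) = -a + -b := by module
    rwa [e] at this
  nd := fun h' => h.symm hp |>.nd (by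
    have e : a - b = -b - -a := by module
    rwa [e])
  n1 := fun h' => h.n1 (by
    have h'' := h'.neg hp
    have e : -(-b + (2 : ℤ) • -a) = b + (2 : ℤ) • a := by module
    rwa [e] at h'')
  n2 := fun h' => h.n2 (by
    have h'' := h'.neg hp
    have e : -(-a + (2 : ℤ) • -b) = a + (2 : ℤ) • b := by module
    rwa [e] at h'')

/-- `a + b + c = 0` -/
theorem Pr.cyc (h : Pr D l a b) : Pr D l b (-(a + b)) := by
  have h1 := ((h.symm hp).next hp).neg hp
  rw [_root_.neg_neg, add_comm b a] at h1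
  exact h1

theorem Pr.ne (h : Pr D l a b) : b ≠ a := by
  intro e
  have h1 := h.rs
  rw [e, ← two_smul ℤ] at h1
  exact not_rt_two hp h.ra h1

theorem Pr.ne_neg (h : Pr D l a b) : b ≠ -a := by
  intro e
  have h1 := h.rs
  rw [e, add_neg_cancel] at h1
  exact not_rt_zero hp h1

end pairs

/-- the structure constant -/
noncomputable def NN (D : ChevalleyDatum) (l : ℕ) (a b : Fin l → ℤ) : ℤ := D.chainM (idx D l a) (idx D l b) 1

section elements

include hp

theorem entry_pair {a b : Fin l → ℤ} (h : Pr D l a b) : (NN D l a b = 1 ∨ NN D l a b = -1) ∧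
    D.chainEntry (idx D l a) (idx D l b) = [(idx D l (a + b), NN D l a b)] ∧
    D.chainEntry (idx D l (-a)) (idx D l (a + b)) = [(idx D l b, NN D l a b)] := by
  have h' := h
  obtain ⟨⟨r, hr, hra⟩, ⟨s, hs, hsb⟩, ⟨q, hq, hqs⟩, nd, n1, n2⟩ := h'
  have e1 : s ≠ r := by
    intro e; subst e
    exact h.ne hp (hsb.symm.trans hra)
  have e2 : s ≠ D.neg r := by
    intro e; subst e
    apply h.ne_neg hp
    rw [← hsb, vec_neg hp hr, hra]
  obtain ⟨c, hc, h1, h2⟩ := chain_pair hp hr hs hq e1 e2 (by rw [hra, hsb, hqs, add_comm]) (by rwa [hra, hsb])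
    (by rwa [hra, hsb])
  have i1 : idx D l a = r := by rw [← hra, idx_vec hp hr]
  have i2 : idx D l b = s := by rw [← hsb, idx_vec hp hs]
  have i3 : idx D l (a + b) = q := by rw [← hqs, idx_vec hp hq]
  have i4 : idx D l (-a) = D.neg r := by rw [← hra, ← vec_neg hp hr, idx_vec hp (neg_lt hp.checked hr)]
  have hN : NN D l a b = c := by
    unfold NN ChevalleyDatum.chainM
    rw [i1, i2, h1]
    rfl
  rw [hN, i1, i2, i3, i4]
  exact ⟨hc, h1, h2⟩

theorem NN_sq {a b : Fin l → ℤ} (h : Pr D l a b) : NN D l a b * NN D l a b = 1 := by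
  rcases (entry_pair hp h).1 with h | h <;> rw [h] <;> norm_num

/-- `N_{-a,a+b} = N_{a,b}` -/
theorem NN_neg {a b : Fin l → ℤ} (h : Pr D l a b) : NN D l (-a) (a + b) = NN D l a b := by
  conv_lhs => unfold NN ChevalleyDatum.chainM
  rw [(entry_pair hp h).2.2]
  rfl

end elements

section xc

variable {k : Type u} [Field k]

theorem xc_add (v : Fin l → ℤ) (a b : k) : xc hp v (a + b) = xc hp v a * xc hp v b :=
  Subtype.ext (xG_add hp.inList _ a b).symm

theorem xc_zero (v : Fin l → ℤ) : xc hp v (0 : k) = 1 := by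
  have := xc_add hp v (0 : k) 0
  rw [add_zero] at this
  exact mul_eq_left.1 this.symm

theorem xc_neg (v : Fin l → ℤ) (a : k) : xc hp v (-a) = (xc hp v a)⁻¹ := by
  rw [eq_inv_iff_mul_eq_one, ← xc_add, neg_add_cancel, xc_zero]

theorem word_nil' {r s : ℕ} (h : D.commTerms r s = []) (t u : k) :
    wordG hp.inList (D.commWord k r s t u) = 1 := by
  show (List.map _ (List.map _ (D.commTerms r s))).prod = 1
  rw [h]
  rfl

theorem word_one' {r s q : ℕ} {c : ℤ} (h : D.commTerms r s = [(q, c, 1, 1)]) (t u : k) :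
    wordG hp.inList (D.commWord k r s t u) = xG hp.inList q (-(c : k) * (t * u)) := by
  show (List.map _ (List.map _ (D.commTerms r s))).prod = _
  rw [h]
  show xG hp.inList q ((c : k) * (-t) ^ 1 * u ^ 1) * 1 = _
  rw [mul_one, pow_one, pow_one]
  congr 1
  ring

theorem comm_word {r s : ℕ} (hr : r < D.nroots) (hs : s < D.nroots) (h1 : s ≠ r) (h2 : s ≠ D.neg r) (t u : k) :
    xG hp.inList s u * xG hp.inList r t =
      xG hp.inList r t * xG hp.inList s u * wordG hp.inList (D.commWord k r s t u) :=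
  Units.ext (by
    rw [Units.val_mul, Units.val_mul, Units.val_mul, coe_wordG]
    exact Cfsg.Agent.S1025.result D hp.inList r s hr hs h1 h2 t u)

/-- commuting root elements -/
theorem xc_commute {a b : Fin l → ℤ} (ha : Rt D l a) (hb : Rt D l b) (hn : b ≠ -a)
    (h : b = a ∨ ∀ m n : ℕ, 0 < m → 0 < n → ¬ Rt D l ((m : ℤ) • a + (n : ℤ) • b)) (t u : k) :
    Commute (xc hp a t) (xc hp b u) := by
  rcases h with rfl | h
  · show _ * _ = _ * _
    rw [← xc_add, ← xc_add, add_comm]
  · obtain ⟨r, hr, rfl⟩ := ha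
    obtain ⟨s, hs, rfl⟩ := hb
    by_cases hrs : s = r
    · subst hrs
      show _ * _ = _ * _
      rw [← xc_add, ← xc_add, add_comm]
    have h2 : s ≠ D.neg r := by
      rintro rfl
      exact hn (vec_neg hp hr)
    refine Commute.symm (Subtype.ext ?_)
    rw [Subgroup.coe_mul, Subgroup.coe_mul, coe_xc hp hr, coe_xc hp hs, comm_word hp hr hs hrs h2,
      word_nil' hp (comm_terms_nil hp h), mul_one]

theorem br_group {G : Type*} [Group G] {g h W : G} (h1 : g * h = h * g * W) (h2 : g * W = W * g) (h3 : h * W = W * h) :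
    ⁅g, h⁆ = W := by
  rw [commutatorElement_def, h1, mul_assoc (h * g) W, mul_assoc h g, ← mul_assoc g W, h2]
  rw [show h * (W * g * g⁻¹) * h⁻¹ = h * W * h⁻¹ by group, h3]
  group

end xc

section comb

include hp

/-- bilinearity of the Cartan integers in the second argument -/
theorem cartanR_lin {u v x y : ℕ} (hv : v < D.nroots) (hx : x < D.nroots) (hy : y < D.nroots)
    (i j : ℤ) (e : vec D l v = i • vec D l x + j • vec D l y) :
    cartanR D u v = i * cartanR D u x + j * cartanR D u y := by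
  have hck := hp.checked
  unfold cartanR
  rw [Finset.mul_sum, Finset.mul_sum, ← Finset.sum_add_distrib]
  refine Finset.sum_congr rfl fun i' hi => ?_
  have hi' := Finset.mem_range.1 hi
  rw [cartan_eq_sum hck hi' hv, cartan_eq_sum hck hi' hx, cartan_eq_sum hck hi' hy]
  have : ∀ j' ∈ Finset.range D.rank, rt D v j' * D.cartan i' (D.simple j') =
      i * (rt D x j' * D.cartan i' (D.simple j')) + j * (rt D y j' * D.cartan i' (D.simple j')) := by
    intro j' hj
    have hj' : j' < l := by rw [← hp.rank_eq]; exact Finset.mem_range.1 hj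
    have h1 := congrFun e ⟨j', hj'⟩
    rw [Pi.add_apply, Pi.smul_apply, Pi.smul_apply, vec_apply, vec_apply, vec_apply] at h1
    simp only [smul_eq_mul] at h1
    rw [h1]
    ring
  rw [Finset.sum_congr rfl this, Finset.sum_add_distrib, ← Finset.mul_sum, ← Finset.mul_sum]
  ring

/-- `A_{a,b} = -1` for pairs of type `A₂` -/
theorem cartanR_pair {x y : ℕ} (hx : x < D.nroots) (hy : y < D.nroots) (hxy : Pr D l (vec D l x) (vec D l y)) :
    cartanR D x y = -1 := by
  have e1 : y ≠ x := by
    intro e; subst e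
    exact hxy.ne hp rfl
  have e2 : y ≠ D.neg x := by
    intro e; subst e
    exact hxy.ne_neg hp (vec_neg hp hx)
  obtain ⟨-, e4, -⟩ := entry_pair hp hxy
  rw [idx_vec hp hx, idx_vec hp hy] at e4
  obtain ⟨q', S, E, k', hst, hk, hSk, hc⟩ := hasStrings_of_mem hp.inList hx y hy e1 e2
  have h5 := hst.up k' hk
  rw [hSk, e4] at h5
  have h6 : q' - k' = 1 := by
    have := congrArg List.length h5
    simpa using this.symm
  have h7 : k' = 0 := by
    by_contra h0
    have h8 := hst.down k' hk
    have h9 : (D.chainEntry (D.neg x) (S k'))[0]? =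
        some (S (k' - 0 - 1), E k' * E (k' - 0 - 1) * ((q' - k' + 0 + 1).choose (0 + 1) : ℤ)) := by
      rw [h8, List.getElem?_map, List.getElem?_range (by omega)]
      rfl
    obtain ⟨h10, h11⟩ := chainEntry_vec hp h9
    apply hxy.nd
    refine ⟨_, h10, ?_⟩
    rw [h11, hSk, vec_neg hp hx]
    push_cast
    module
  rw [hc]
  omega

/-- `A_{x,y} ≤ 3` -/
theorem cartanR_le {x y : ℕ} (hx : x < D.nroots) (hy : y < D.nroots) : cartanR D x y ≤ 3 := by
  have hx0 := rootOK_of_mem hp.inList hx
  by_cases e1 : y = x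
  · rw [e1, hx0.cartan_self]; norm_num
  by_cases e2 : y = D.neg x
  · rw [e2, cartanR_neg hx0]; norm_num
  obtain ⟨q', S, E, k', hst, hk, hSk, hc⟩ := hasStrings_of_mem hp.inList hx y hy e1 e2
  have := hst.q_le
  rw [hc]
  omega

/-- `m a + n (a + b)` is not a root -/
theorem Pr.no_comb {a b : Fin l → ℤ} (h : Pr D l a b) (m n : ℕ) (hm : 0 < m) (hn : 0 < n) :
    ¬ Rt D l ((m : ℤ) • a + (n : ℤ) • (a + b)) := by
  rintro ⟨w, hw, hwR⟩
  have h0 := h
  obtain ⟨r, hr, hra⟩ := h.ra
  obtain ⟨s, hs, hsb⟩ := h.rb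
  have hr0 := rootOK_of_mem hp.inList hr
  rw [← hra, ← hsb] at h
  have c1 := cartanR_pair hp hr hs h
  have f1 : vec D l w = ((m + n : ℕ) : ℤ) • vec D l r + (n : ℤ) • vec D l s := by
    rw [hwR, hra, hsb]
    push_cast
    module
  have g1 := cartanR_lin hp (u := r) hw hr hs _ _ f1
  rw [hr0.cartan_self, c1] at g1
  have g2 := cartanR_le hp hr hw
  have hm1 : m = 1 := by push_cast at g1; omega
  have hn1 : n = 1 := by push_cast at g1; omega
  subst hm1; subst hn1
  apply h0.n1
  refine ⟨w, hw, ?_⟩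
  rw [hwR]
  push_cast
  module

/-- the only roots `m a + n b` -/
theorem Pr.comb {a b : Fin l → ℤ} (h : Pr D l a b) (m n : ℕ) (hm : 0 < m) (hn : 0 < n)
    (hR : Rt D l ((m : ℤ) • a + (n : ℤ) • b)) : m = 1 ∧ n = 1 := by
  rcases lt_trichotomy m n with h1 | h1 | h1
  · exfalso
    refine (h.symm hp).no_comb hp (n - m) m (by omega) hm ?_
    have e : (m : ℤ) • a + (n : ℤ) • b = ((n - m : ℕ) : ℤ) • b + (m : ℤ) • (b + a) := by
      rw [Nat.cast_sub h1.le]
      module
    rwa [← e]
  · subst h1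
    obtain ⟨w, hw, hwR⟩ := hR
    obtain ⟨q, hq, hqs⟩ := h.rs
    have hq0 := rootOK_of_mem hp.inList hq
    have f1 : vec D l w = (m : ℤ) • vec D l q + (0 : ℤ) • vec D l q := by
      rw [hwR, hqs]
      module
    have g1 := cartanR_lin hp (u := q) hw hq hq _ _ f1
    rw [hq0.cartan_self] at g1
    have g2 := cartanR_le hp hq hw
    have : m = 1 := by omega
    exact ⟨this, this⟩
  · exfalso
    refine h.no_comb hp (m - n) n (by omega) hn ?_
    have e : (m : ℤ) • a + (n : ℤ) • b = ((m - n : ℕ) : ℤ) • a + (n : ℤ) • (a + b) := by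
      rw [Nat.cast_sub h1.le]
      module
    rwa [← e]

end comb

section br

variable {k : Type u} [Field k]

/-- **the commutator of a pair of type `A₂`** -/
theorem xc_br {a b : Fin l → ℤ} (h : Pr D l a b) (t u : k) :
    ⁅xc hp a t, xc hp b u⁆ = xc hp (a + b) ((NN D l a b : k) * (t * u)) := by
  have e := (entry_pair hp h).2.1
  obtain ⟨r, hr, hra⟩ := h.ra
  obtain ⟨s, hs, hsb⟩ := h.rb
  obtain ⟨q, hq, hqs⟩ := h.rs
  have e1 : s ≠ r := by
    intro e; subst e
    exact h.ne hp (hsb.symm.trans hra)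
  have e2 : s ≠ D.neg r := by
    intro e; subst e
    apply h.ne_neg hp
    rw [← hsb, vec_neg hp hr, hra]
  have i1 : idx D l a = r := by rw [← hra, idx_vec hp hr]
  have i2 : idx D l b = s := by rw [← hsb, idx_vec hp hs]
  have i3 : idx D l (a + b) = q := by rw [← hqs, idx_vec hp hq]
  rw [i1, i2, i3] at e
  have h1 : D.commTerms r s = [(q, NN D l a b, 1, 1)] := comm_terms_one hp e (by rw [hra, hsb]; exact h.n2)
  -- commutation with the centre
  have c1 : ∀ t u : k, Commute (xc hp (a + b) t) (xc hp a u) := fun t u => by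
    refine (xc_commute hp h.ra h.rs ?_ (Or.inr fun m n hm hn => h.no_comb hp m n hm hn) u t).symm
    exact ((h.next hp).ne hp)
  have c2 : ∀ t u : k, Commute (xc hp (a + b) t) (xc hp b u) := fun t u => by
    have h' := h.symm hp
    rw [add_comm a b]
    refine (xc_commute hp h'.ra h'.rs ?_ (Or.inr fun m n hm hn => h'.no_comb hp m n hm hn) u t).symm
    exact ((h'.next hp).ne hp)
  have h2 : ⁅xc hp b u, xc hp a t⁆ = xc hp (a + b) (-(NN D l a b : k) * (t * u)) := by
    apply br_group
    · refine Subtype.ext ?_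
      show xG hp.inList (idx D l b) u * xG hp.inList (idx D l a) t = xG hp.inList (idx D l a) t *
        xG hp.inList (idx D l b) u * xG hp.inList (idx D l (a + b)) _
      rw [i1, i2, i3, comm_word hp hr hs e1 e2, word_one' hp h1]
    · exact (c2 _ _).symm
    · exact (c1 _ _).symm
  rw [← commutatorElement_inv, h2, ← xc_neg]
  congr 1
  ring

include hp in
/-- `N_{b,a} = - N_{a,b}` -/
theorem NN_swap {a b : Fin l → ℤ} (h : Pr D l a b) : NN D l b a = -NN D l a b := by
  have h1 := xc_br hp (k := ℚ) h 1 1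
  have h2 := xc_br hp (k := ℚ) (h.symm hp) 1 1
  rw [← commutatorElement_inv, h1, ← xc_neg, add_comm b a] at h2
  obtain ⟨q, hq, hqs⟩ := h.rs
  rw [← hqs] at h2
  have h3 := xc_inj hp hq h2
  have h4 : ((NN D l b a : ℤ) : ℚ) = ((-NN D l a b : ℤ) : ℚ) := by
    push_cast
    linarith
  exact_mod_cast h4

include hp in
/-- `N_{b,c} = N_{a,b}` for `a + b + c = 0` -/
theorem NN_cyc {a b : Fin l → ℤ} (h : Pr D l a b) : NN D l b (-(a + b)) = NN D l a b := by
  have hc := h.cyc hp
  -- `N_{-c,-a} = N_{c,b}`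
  have h1 := NN_neg hp (hc.symm hp)
  have e1 : -(a + b) + b = -a := by module
  rw [_root_.neg_neg, e1] at h1
  have h2 := NN_neg hp h
  have h3 := NN_swap hp (h.next hp)
  rw [h2] at h3
  rw [h3] at h1
  have h4 := NN_swap hp hc
  rw [← h1] at h4
  linarith

end br

end Pair

/-! ### part Frame -/

section Frame

open CoxeterSystem Cfsg Cfsg.Lie Cfsg.Lie.ChevalleyDatum
open Cfsg.Agent.ChevalleyStructure Cfsg.Agent.ChevalleyStructure.Elts
open Cfsg.Agent.Nodes.RGDChev Cfsg.Agent.KFacts.RgdChevCoord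
open Cfsg.Agent.AGraded Matrix Matrix.SpecialLinearGroup
open scoped commutatorElement


variable {D : ChevalleyDatum} {l : ℕ} {M : CoxeterMatrix (Fin l)} (hp : IsType D l M)

/-- frames of type `A_m` -/
structure AFr (D : ChevalleyDatum) (l : ℕ) {n : ℕ} (ev : Fin n → Fin l → ℤ) : Prop where
  rt : ∀ i j, i ≠ j → Rt D l (ev i - ev j)
  pr : ∀ i j p, i ≠ j → j ≠ p → i ≠ p → Pr D l (ev i - ev j) (ev j - ev p)
  comm : ∀ i j p q, i ≠ j → p ≠ q → j ≠ p → i ≠ q → i ≠ p → j ≠ q → ev p - ev q ≠ -(ev i - ev j) ∧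
    ∀ m n : ℕ, 0 < m → 0 < n → ¬ Rt D l ((m : ℤ) • (ev i - ev j) + (n : ℤ) • (ev p - ev q))

/-- the signs -/
noncomputable def sgn (D : ChevalleyDatum) (l : ℕ) {n : ℕ} (ev : Fin (n + 1) → Fin l → ℤ) (i j : Fin (n + 1)) : ℤ :=
  if i = 0 ∨ j = 0 then 1 else NN D l (ev 0 - ev i) (ev i - ev j)

section signs

variable {n : ℕ} {ev : Fin (n + 1) → Fin l → ℤ}

theorem sgn_zero_left (j : Fin (n + 1)) : sgn D l ev 0 j = 1 := by
  unfold sgn; rw [if_pos (Or.inl rfl)]

theorem sgn_zero_right (i : Fin (n + 1)) : sgn D l ev i 0 = 1 := by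
  unfold sgn; rw [if_pos (Or.inr rfl)]

theorem sgn_of_ne {i j : Fin (n + 1)} (hi : i ≠ 0) (hj : j ≠ 0) :
    sgn D l ev i j = NN D l (ev 0 - ev i) (ev i - ev j) := by
  unfold sgn; rw [if_neg (by tauto)]

include hp

theorem sgn_sq (h : AFr D l ev) {i j : Fin (n + 1)} (hij : i ≠ j) : sgn D l ev i j * sgn D l ev i j = 1 := by
  by_cases hi : i = 0
  · rw [hi, sgn_zero_left]; norm_num
  by_cases hj : j = 0
  · rw [hj, sgn_zero_right]; norm_num
  rw [sgn_of_ne hi hj]
  exact NN_sq hp (h.pr 0 i j (Ne.symm hi) hij (Ne.symm hj))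

/-- the cocycle relation when one of the indices is `0` -/
theorem sgn_mul (h : AFr D l ev) {i j p : Fin (n + 1)} (hij : i ≠ j) (hjp : j ≠ p) (hip : i ≠ p)
    (h0 : i = 0 ∨ j = 0 ∨ p = 0) :
    NN D l (ev i - ev j) (ev j - ev p) * sgn D l ev i j * sgn D l ev j p = sgn D l ev i p := by
  rcases h0 with rfl | rfl | rfl
  · rw [sgn_zero_left, sgn_zero_left, sgn_of_ne (Ne.symm hij) (Ne.symm hip), mul_one]
    exact NN_sq hp (h.pr 0 j p hij hjp hip)
  · rw [sgn_zero_left, sgn_zero_right, sgn_of_ne hij (Ne.symm hjp), mul_one, mul_one]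
    have h1 := NN_neg hp (h.pr i 0 p hij hjp hip)
    have e1 : -(ev i - ev 0) = ev 0 - ev i := by module
    have e2 : ev i - ev 0 + (ev 0 - ev p) = ev i - ev p := by module
    rw [e1, e2] at h1
    exact h1.symm
  · rw [sgn_zero_right, sgn_zero_right, sgn_of_ne hip hjp, mul_one]
    have h1 := NN_cyc hp (h.pr 0 i j (Ne.symm hip) hij (Ne.symm hjp))
    have e1 : -(ev 0 - ev i + (ev i - ev j)) = ev j - ev 0 := by module
    rw [e1] at h1
    rw [h1]
    exact NN_sq hp (h.pr 0 i j (Ne.symm hip) hij (Ne.symm hjp))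

end signs

section stein

variable {n : ℕ} {ev : Fin (n + 1) → Fin l → ℤ} {k : Type u} [Field k]

/-- the root elements of the frame -/
noncomputable def xf (hp : IsType D l M) (ev : Fin (n + 1) → Fin l → ℤ) (i j : Fin (n + 1)) (t : k) : ↥(D.group k) :=
  xc hp (ev i - ev j) ((sgn D l ev i j : k) * t)

theorem xf_br0 (h : AFr D l ev) {i j p : Fin (n + 1)} (hij : i ≠ j) (hjp : j ≠ p) (hip : i ≠ p)
    (h0 : i = 0 ∨ j = 0 ∨ p = 0) (a b : k) : ⁅xf hp ev i j a, xf hp ev j p b⁆ = xf hp ev i p (a * b) := by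
  unfold xf
  rw [xc_br hp (h.pr i j p hij hjp hip)]
  have e2 : ev i - ev j + (ev j - ev p) = ev i - ev p := by module
  rw [e2]
  congr 1
  rw [← sgn_mul hp h hij hjp hip h0]
  push_cast
  ring

theorem xf_add (i j : Fin (n + 1)) (a b : k) : xf hp ev i j (a + b) = xf hp ev i j a * xf hp ev i j b := by
  unfold xf
  rw [mul_add, xc_add]

theorem xf_comm (h : AFr D l ev) {i j p q : Fin (n + 1)} (hij : i ≠ j) (hpq : p ≠ q) (hjp : j ≠ p) (hiq : i ≠ q)
    (a b : k) : xf hp ev i j a * xf hp ev p q b = xf hp ev p q b * xf hp ev i j a := by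
  refine xc_commute hp (h.rt i j hij) (h.rt p q hpq) ?_ ?_ _ _
  · intro e
    by_cases hip : i = p
    · subst hip
      by_cases hjq : j = q
      · subst hjq
        have h1 := h.rt i j hij
        have h2 : (2 : ℤ) • (ev i - ev j) = 0 := by
          nth_rw 1 [two_smul, e, neg_add_cancel]
        exact h1.ne_zero hp ((smul_eq_zero.1 h2).resolve_left (by norm_num))
      · have h1 := (h.pr i j q hij hjq hiq).next hp
        have e1 : ev i - ev j + (ev j - ev q) = ev i - ev q := by module
        rw [e1, e] at h1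
        exact h1.ne hp rfl
    · by_cases hjq : j = q
      · subst hjq
        have h1 := ((h.pr p i j (Ne.symm hip) hij hpq).symm hp).next hp
        have e1 : ev i - ev j + (ev p - ev i) = ev p - ev j := by module
        rw [e1, e] at h1
        exact h1.ne hp rfl
      · exact (h.comm i j p q hij hpq hjp hiq hip hjq).1 e
  · by_cases hip : i = p
    · subst hip
      by_cases hjq : j = q
      · subst hjq
        exact Or.inl rfl
      · right
        intro m n' hm hn
        have h1 := (h.pr i j q hij hjq hiq).no_comb hp m n' hm hn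
        have e1 : ev i - ev j + (ev j - ev q) = ev i - ev q := by module
        rwa [e1] at h1
    · by_cases hjq : j = q
      · subst hjq
        right
        intro m n' hm hn
        have h1 := ((h.pr p i j (Ne.symm hip) hij hpq).symm hp).no_comb hp m n' hm hn
        have e1 : ev i - ev j + (ev p - ev i) = ev p - ev j := by module
        rwa [e1] at h1
      · exact Or.inr (h.comm i j p q hij hpq hjp hiq hip hjq).2

theorem xf_neg (i j : Fin (n + 1)) (a : k) : xf hp ev i j (-a) = (xf hp ev i j a)⁻¹ := by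
  unfold xf
  rw [mul_neg, xc_neg]

/-- **the Steinberg relations** -/
theorem steinRel (h : AFr D l ev) : SteinRel (xf (k := k) hp ev) where
  add i j _ a b := xf_add hp i j a b
  comm i j p q hij hpq hjp hiq a b := xf_comm hp h hij hpq hjp hiq a b
  br i j p hij hjp hip a b := by
    by_cases h0 : i = 0 ∨ j = 0 ∨ p = 0
    · exact xf_br0 hp h hij hjp hip h0 a b
    · push Not at h0
      obtain ⟨hi, hj, hp0⟩ := h0
      set g := xf hp ev j p b with hg
      have e1 : xf hp ev i j a = ⁅xf hp ev i 0 a, xf hp ev 0 j (1 : k)⁆ := by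
        rw [xf_br0 hp h hi (Ne.symm hj) hij (Or.inr (Or.inl rfl)), mul_one]
      have e2 : g * xf hp ev i 0 a * g⁻¹ = xf hp ev i 0 a := by
        rw [hg, ← xf_comm hp h hi hjp (Ne.symm hj) hip, mul_inv_cancel_right]
      have e3 : ⁅xf hp ev 0 j (1 : k), g⁆ = xf hp ev 0 p b := by
        rw [hg, xf_br0 hp h (Ne.symm hj) hjp (Ne.symm hp0) (Or.inl rfl), one_mul]
      have e4 : g * xf hp ev 0 j (1 : k) * g⁻¹ = (xf hp ev 0 p b)⁻¹ * xf hp ev 0 j (1 : k) := by
        rw [← e3, commutatorElement_def]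
        group
      have e5 : g * xf hp ev i j a * g⁻¹ = xf hp ev i p (-(a * b)) * xf hp ev i j a := by
        have h1 : g * xf hp ev i j a * g⁻¹ = ⁅g * xf hp ev i 0 a * g⁻¹, g * xf hp ev 0 j (1 : k) * g⁻¹⁆ := by
          rw [e1, commutatorElement_def, commutatorElement_def]
          group
        rw [h1, e2, e4]
        have h2 : ∀ {G : Type u} [Group G] (A B C : G), ⁅A, B * C⁆ = ⁅A, B⁆ * (B * ⁅A, C⁆ * B⁻¹) := by
          intro G _ A B C
          simp only [commutatorElement_def]
          group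
        rw [h2, ← e1, ← xf_neg, xf_br0 hp h hi (Ne.symm hp0) hip (Or.inr (Or.inl rfl)), mul_neg]
        congr 1
        rw [xf_comm hp h (Ne.symm hp0) hij (Ne.symm hip) (Ne.symm hj), mul_inv_cancel_right]
      rw [commutatorElement_def]
      have h3 : xf hp ev i j a * g * (xf hp ev i j a)⁻¹ * g⁻¹ =
          xf hp ev i j a * (g * xf hp ev i j a * g⁻¹)⁻¹ := by group
      rw [h3, e5, xf_neg]
      group

include hp in
theorem sgn_ne_zero (h : AFr D l ev) {i j : Fin (n + 1)} (hij : i ≠ j) : (sgn D l ev i j : k) ≠ 0 := by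
  intro h0
  have h1 : ((sgn D l ev i j * sgn D l ev i j : ℤ) : k) = 1 := by rw [sgn_sq hp h hij, Int.cast_one]
  rw [Int.cast_mul, h0, mul_zero] at h1
  exact zero_ne_one h1

theorem xf_inj (h : AFr D l ev) {i j : Fin (n + 1)} (hij : i ≠ j) : Function.Injective (xf (k := k) hp ev i j) := by
  intro a b hab
  obtain ⟨r, hr, e⟩ := h.rt i j hij
  unfold xf at hab
  rw [← e] at hab
  exact mul_left_cancel₀ (sgn_ne_zero hp h hij) (xc_inj hp hr hab)

/-- **The homomorphism of a frame.** -/
theorem exists_hom_afr (h : AFr D l ev) (hn : 2 ≤ n)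
    (hk : ∀ S : Set k, S.Finite → ∃ E : Subfield k, Finite E ∧ S ⊆ E) :
    ∃ π : SpecialLinearGroup (Fin (n + 1)) k →* ↥(D.group k),
      (∀ i j (hij : i ≠ j) a, π (SpecialLinearGroup.transvection hij a) = xf hp ev i j a) ∧
      π.ker ≤ Subgroup.center (SpecialLinearGroup (Fin (n + 1)) k) := by
  obtain ⟨π, h1, -, h3⟩ := exists_hom_loc hk (steinRel (k := k) hp h) hn
  have h01 : (0 : Fin (n + 1)) ≠ ⟨1, by omega⟩ := fun e => by
    have := congrArg Fin.val e
    simp at this
  refine ⟨π, h1, h3 ⟨0, ⟨1, by omega⟩, h01, 1, fun e => ?_⟩⟩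
  have h4 : xf hp ev 0 ⟨1, by omega⟩ (1 : k) = xf hp ev 0 ⟨1, by omega⟩ (0 : k) := by
    rw [e]
    unfold xf
    rw [mul_zero, xc_zero]
  exact one_ne_zero (xf_inj hp h h01 h4)

end stein

section three

include hp

/-- frames of type `A₂` -/
theorem afr_of_pair {ev : Fin 3 → Fin l → ℤ} (h : Pr D l (ev 0 - ev 1) (ev 1 - ev 2)) : AFr D l ev := by
  have key : ∀ i j p : Fin 3, i ≠ j → j ≠ p → i ≠ p → Pr D l (ev i - ev j) (ev j - ev p) := by
    have h1 := h.cyc hp
    have e1 : -(ev 0 - ev 1 + (ev 1 - ev 2)) = ev 2 - ev 0 := by module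
    rw [e1] at h1
    have h2 := h1.cyc hp
    have e2 : -(ev 1 - ev 2 + (ev 2 - ev 0)) = ev 0 - ev 1 := by module
    rw [e2] at h2
    have neg : ∀ {x y z : Fin l → ℤ}, Pr D l (x - y) (y - z) → Pr D l (z - y) (y - x) := by
      intro x y z h3
      have h4 := (h3.neg hp).symm hp
      rwa [neg_sub, neg_sub] at h4
    have h3 := neg h
    have h4 := neg h1
    have h5 := neg h2
    intro i j p hij hjp hip
    fin_cases i <;> fin_cases j <;> fin_cases p <;>
      first
      | exact absurd rfl hij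
      | exact absurd rfl hjp
      | exact absurd rfl hip
      | exact h
      | exact h1
      | exact h2
      | exact h3
      | exact h4
      | exact h5
  refine ⟨?_, key, ?_⟩
  · intro i j hij
    obtain ⟨p, hp1, hp2⟩ : ∃ p : Fin 3, p ≠ i ∧ p ≠ j := by
      revert i j
      decide
    exact (key i j p hij (Ne.symm hp2) (Ne.symm hp1)).ra
  · intro i j p q hij hpq hjp hiq hip hjq
    exfalso
    omega

end three

end Frame

end Cfsg.Agent.H46.Gen
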