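import Cfsg.Agent.H46.Gen.A2Hom
import Cfsg.Agent.Nodes.Coroot

/-!
# S2187, nontoral case: frames from the Weyl group (helper46)

* `cpr_le_two` : `|⟨x, y^∨⟩| ≤ 2` for types other than `G₂`;
* `pr_of_cpr`, `pr_of_three` : pairs of type `A₂`;
* `afr_of_five` : frames of type `A₄` from elements of order 5 (simply laced types).
-/

set_option autoImplicit false
set_option linter.unusedSectionVars false

namespace Cfsg.Agent.H46.Gen

open CoxeterSystem Cfsg Cfsg.Lie Cfsg.Lie.ChevalleyDatum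
open Cfsg.Agent.ChevalleyStructure Cfsg.Agent.ChevalleyStructure.Elts Cfsg.Agent.ChevalleyStructure.CoxeterGeom
  Cfsg.Agent.ChevalleyStructure.CoxeterGeomTypes
open Cfsg.Agent.Tits.Roots Cfsg.Agent.Tits.Core Cfsg.Agent.Nodes.Coroot
open Cfsg.Agent.Nodes.RGDChev Cfsg.Agent.KFacts.RgdChevCoord

universe u

variable {D : ChevalleyDatum} {l : ℕ} {M : CoxeterMatrix (Fin l)} (hp : IsType D l M)
  {W : Type*} [Group W] (cs : CoxeterSystem M W)

/-- `- 2 ≤` all Cartan integers -/
def cbT (D : ChevalleyDatum) : Bool := D.cartanSR.toList.all fun row => row.toList.all fun c => decide (-2 ≤ c)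

theorem cbT_of {D : ChevalleyDatum} (hD : InList D) (hG : D ≠ chevG2) : cbT D = true := by
  simp only [InList, List.mem_cons, List.not_mem_nil, or_false] at hD
  rcases hD with h | h | h | h | h | h | h <;> subst h
  · exact absurd rfl hG
  all_goals decide +kernel

theorem cartan_ge {D : ChevalleyDatum} (hD : InList D) (hG : D ≠ chevG2) (i s : ℕ) : -2 ≤ D.cartan i s := by
  have h := cbT_of hD hG
  unfold ChevalleyDatum.cartan
  by_cases hi : i < D.cartanSR.size
  · have h1 : D.cartanSR.getD i #[] = D.cartanSR[i] := by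
      rw [Array.getD_eq_getD_getElem?, Array.getElem?_eq_getElem hi, Option.getD_some]
    rw [h1]
    have h2 := List.all_eq_true.1 h D.cartanSR[i] (by simp)
    by_cases hs : s < D.cartanSR[i].size
    · have h3 : D.cartanSR[i].getD s 0 = D.cartanSR[i][s] := by
        rw [Array.getD_eq_getD_getElem?, Array.getElem?_eq_getElem hs, Option.getD_some]
      rw [h3]
      have h4 := List.all_eq_true.1 h2 D.cartanSR[i][s] (by simp)
      exact of_decide_eq_true h4
    · have h3 : D.cartanSR[i].getD s 0 = 0 := by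
        rw [Array.getD_eq_getD_getElem?, Array.getElem?_eq_none (by omega), Option.getD_none]
      rw [h3]; norm_num
  · have h1 : D.cartanSR.getD i #[] = #[] := by
      rw [Array.getD_eq_getD_getElem?, Array.getElem?_eq_none (by omega), Option.getD_none]
    rw [h1]
    simp

include hp in
theorem rt_iff {x : Fin l → ℤ} : Rt D l x ↔ IsRoot cs hp.isCartan x := (isRoot_iff hp cs x).symm

include hp in
theorem cpr_ge [Finite W] (hG : D ≠ chevG2) {x y : Fin l → ℤ} (hx : IsRoot cs hp.isCartan x)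
    (hy : IsRoot cs hp.isCartan y) : -2 ≤ cpr cs hp.isCartan x y := by
  obtain ⟨w, i, rfl⟩ := hy
  rw [cpr_rep_sr]
  obtain ⟨s, hs, e⟩ := (isRoot_iff hp cs _).1 (hx.act w⁻¹)
  rw [← e, pairing_vec hp i hs]
  exact cartan_ge hp.inList hG _ _

include hp in
theorem cpr_le [Finite W] (hG : D ≠ chevG2) {x y : Fin l → ℤ} (hx : IsRoot cs hp.isCartan x)
    (hy : IsRoot cs hp.isCartan y) : cpr cs hp.isCartan x y ≤ 2 := by
  have h1 := cpr_ge hp cs hG hx.neg hy
  rw [cpr_neg cs hp.isCartan x hy] at h1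
  linarith

include hp in
/-- pairs of type `A₂` from the Cartan integers -/
theorem pr_of_cpr [Finite W] (hG : D ≠ chevG2) {a b : Fin l → ℤ} (ha : IsRoot cs hp.isCartan a)
    (hb : IsRoot cs hp.isCartan b) (h1 : cpr cs hp.isCartan a b = -1) (h2 : cpr cs hp.isCartan b a = -1) :
    Pr D l a b where
  ra := (rt_iff hp cs).2 ha
  rb := (rt_iff hp cs).2 hb
  rs := by
    have h3 := isRoot_refl cs hp.isCartan ha hb
    rw [h1, neg_one_smul, sub_neg_eq_add] at h3
    exact (rt_iff hp cs).2 h3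
  nd := fun h => by
    have h3 := cpr_ge hp cs hG ((rt_iff hp cs).1 h) ha
    rw [sub_eq_add_neg, cpr_add cs hp.isCartan _ _ ha, cpr_neg cs hp.isCartan _ ha, cpr_self cs hp.isCartan ha, h2] at h3
    norm_num at h3
  n1 := fun h => by
    have h3 := cpr_le hp cs hG ((rt_iff hp cs).1 h) ha
    rw [cpr_add cs hp.isCartan _ _ ha, cpr_smul cs hp.isCartan _ _ ha, cpr_self cs hp.isCartan ha, h2] at h3
    norm_num at h3
  n2 := fun h => by
    have h3 := cpr_le hp cs hG ((rt_iff hp cs).1 h) hb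
    rw [cpr_add cs hp.isCartan _ _ hb, cpr_smul cs hp.isCartan _ _ hb, cpr_self cs hp.isCartan hb, h1] at h3
    norm_num at h3

/-- Cartan integers of roots of the same length -/
theorem cpr_symm_of_rep [Finite W] {I : Type*} [Fintype I] [DecidableEq I] {M : CoxeterMatrix I}
    (cs : CoxeterSystem M W) {A : I → I → ℤ} (h : IsCartan M A) {a : I → ℤ} (ha : IsRoot cs h a) (v w : W) :
    cpr cs h (rep cs h v a) (rep cs h w a) = cpr cs h (rep cs h w a) (rep cs h v a) := by
  have := Fintype.ofFinite W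
  have e1 := two_form_cpr cs h (rep cs h v a) (ha.act w)
  have e2 := two_form_cpr cs h (rep cs h w a) (ha.act v)
  rw [form_comm, form_rep] at e1
  rw [form_rep] at e2
  have e3 : cpr cs h (rep cs h v a) (rep cs h w a) * form cs h a a =
      cpr cs h (rep cs h w a) (rep cs h v a) * form cs h a a := by rw [← e1, ← e2]
  exact mul_right_cancel₀ (form_pos cs h ha.ne_zero).ne' e3

include hp in
/-- the orbit of an element of order 3 with sum zero -/
theorem pr_of_three [Finite W] (hG : D ≠ chevG2) {a : Fin l → ℤ} (ha : IsRoot cs hp.isCartan a) {w : W}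
    (h3 : a + rep cs hp.isCartan w a + rep cs hp.isCartan w (rep cs hp.isCartan w a) = 0) :
    Pr D l a (rep cs hp.isCartan w a) := by
  set b := rep cs hp.isCartan w a with hb
  set c := rep cs hp.isCartan w b with hc
  have hcc : rep cs hp.isCartan w c = a := by
    have h4 := congrArg (rep cs hp.isCartan w) h3
    rw [map_add, map_add, map_zero, ← hb, ← hc] at h4
    have h5 : rep cs hp.isCartan w c - a = 0 := by
      have : rep cs hp.isCartan w c - a = (b + c + rep cs hp.isCartan w c) - (a + b + c) := by module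
      rw [this, h4, h3, sub_zero]
    exact sub_eq_zero.1 h5
  have hbR : IsRoot cs hp.isCartan b := ha.act w
  have e1 : cpr cs hp.isCartan b a = cpr cs hp.isCartan a b := by
    have := cpr_symm_of_rep cs hp.isCartan ha w 1
    rwa [map_one, Module.End.one_apply, ← hb] at this
  have e2 : cpr cs hp.isCartan c a = cpr cs hp.isCartan a b := by
    have := cpr_rep cs hp.isCartan w c ha
    rw [← this, hcc, ← hb]
  have e3 : cpr cs hp.isCartan (a + b + c) a = 0 := by
    have := cpr_smul cs hp.isCartan 0 a ha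
    rw [zero_smul, zero_mul] at this
    rw [h3, this]
  rw [cpr_add cs hp.isCartan _ _ ha, cpr_add cs hp.isCartan _ _ ha, cpr_self cs hp.isCartan ha, e1, e2] at e3
  have e4 : cpr cs hp.isCartan a b = -1 := by linarith
  exact pr_of_cpr hp cs hG ha hbR e4 (e1.trans e4)

include hp in
/-- **the frame of an element of order 3** -/
theorem afr_of_three [Finite W] (hG : D ≠ chevG2) {a : Fin l → ℤ} (ha : IsRoot cs hp.isCartan a) {w : W}
    (h3 : a + rep cs hp.isCartan w a + rep cs hp.isCartan w (rep cs hp.isCartan w a) = 0) {ev : Fin 3 → Fin l → ℤ}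
    (h0 : ev 0 - ev 1 = a) (h1 : ev 1 - ev 2 = rep cs hp.isCartan w a) : AFr D l ev :=
  afr_of_pair hp (by rw [h0, h1]; exact pr_of_three hp cs hG ha h3)

/-! ### simply laced types -/

/-- simply laced tables: the Cartan integer `2` occurs only on the diagonal -/
def slT (D : ChevalleyDatum) : Bool :=
  (List.range D.rank).all fun i => (D.cartanSR.getD i #[]).toList.zipIdx.all fun x =>
    decide (x.1 ≤ 1) || x.2 == D.simple i

theorem slT_D4 : slT chevD4 = true := by decide +kernel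
theorem slT_E6 : slT chevE6 = true := by decide +kernel
theorem slT_E7 : slT chevE7 = true := by decide +kernel
theorem slT_E8 : slT chevE8 = true := by decide +kernel

include hp in
theorem eq_of_cpr_two [Finite W] (hsl : slT D = true) {x y : Fin l → ℤ} (hx : IsRoot cs hp.isCartan x)
    (hy : IsRoot cs hp.isCartan y) (h2 : 2 ≤ cpr cs hp.isCartan x y) : x = y := by
  obtain ⟨w, i, rfl⟩ := hy
  rw [cpr_rep_sr] at h2
  obtain ⟨s, hs, e⟩ := (isRoot_iff hp cs _).1 (hx.act w⁻¹)
  rw [← e, pairing_vec hp i hs] at h2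
  have h3 := List.all_eq_true.1 hsl i (List.mem_range.2 (lt_rank hp i))
  have h5 : s = D.simple i := by
    have hd : D.cartan i s = (D.cartanSR.getD i #[]).getD s 0 := rfl
    by_cases hs' : s < (D.cartanSR.getD i #[]).size
    · have h6 : D.cartan i s = (D.cartanSR.getD i #[])[s] := by
        rw [hd, Array.getD_eq_getD_getElem?, Array.getElem?_eq_getElem hs', Option.getD_some]
      have h4 := List.all_eq_true.1 h3 (D.cartan i s, s) (by
        rw [List.mem_zipIdx_iff_getElem?, h6]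
        simp)
      rw [Bool.or_eq_true, decide_eq_true_eq, beq_iff_eq] at h4
      rcases h4 with h4 | h4
      · omega
      · exact h4
    · rw [hd, Array.getD_eq_getD_getElem?, Array.getElem?_eq_none (by omega), Option.getD_none] at h2
      omega
  rw [h5, vec_simple hp i] at e
  rw [e, rep_apply_inv]

include hp in
theorem cpr_abs_le_one [Finite W] (hsl : slT D = true) {x y : Fin l → ℤ} (hx : IsRoot cs hp.isCartan x)
    (hy : IsRoot cs hp.isCartan y) (h1 : x ≠ y) (h2 : x ≠ -y) :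
    -1 ≤ cpr cs hp.isCartan x y ∧ cpr cs hp.isCartan x y ≤ 1 := by
  constructor
  · by_contra h3
    have h4 := eq_of_cpr_two hp cs hsl hx.neg hy (by rw [cpr_neg cs hp.isCartan x hy]; omega)
    exact h2 (by rw [← h4, neg_neg])
  · by_contra h3
    exact h1 (eq_of_cpr_two hp cs hsl hx hy (by omega))

/-- `δ_{ip} - δ_{iq} - δ_{jp} + δ_{jq}` -/
def dl4 {n : ℕ} (i j p q : Fin n) : ℤ :=
  (if i = p then 1 else 0) - (if i = q then 1 else 0) - (if j = p then 1 else 0) + (if j = q then 1 else 0)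

include hp in
/-- frames from the Gram matrix, simply laced types -/
theorem afr_of_gram [Fintype W] (hsl : slT D = true) (hG : D ≠ chevG2) {n : ℕ} {ev : Fin n → Fin l → ℤ} {F : ℤ}
    (hR : ∀ i j, i ≠ j → IsRoot cs hp.isCartan (ev i - ev j))
    (hB : ∀ i j p q, 2 * form cs hp.isCartan (ev i - ev j) (ev p - ev q) = F * dl4 i j p q) : AFr D l ev := by
  have hc : ∀ i j p q, p ≠ q → cpr cs hp.isCartan (ev i - ev j) (ev p - ev q) = dl4 i j p q := by
    intro i j p q hpq
    apply cpr_eq_of_form cs hp.isCartan (hR p q hpq)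
    rw [hB]
    have h1 := hB p q p q
    have h2 : dl4 p q p q = 2 := by unfold dl4; simp [hpq, Ne.symm hpq]
    rw [h2] at h1
    have h3 : form cs hp.isCartan (ev p - ev q) (ev p - ev q) = F := by linarith
    rw [h3, mul_comm]
  refine ⟨fun i j hij => (rt_iff hp cs).2 (hR i j hij), fun i j p hij hjp hip => ?_,
    fun i j p q hij hpq hjp hiq hip hjq => ⟨fun e => ?_, fun m n' hm hn hx => ?_⟩⟩
  · refine pr_of_cpr hp cs hG (hR i j hij) (hR j p hjp) ?_ ?_
    · rw [hc i j j p hjp]; unfold dl4; simp [hij, hip, hjp]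
    · rw [hc j p i j hij]; unfold dl4; simp [Ne.symm hij, Ne.symm hip, Ne.symm hjp]
  · have h1 := hc p q i j hij
    rw [e, cpr_neg cs hp.isCartan _ (hR i j hij), cpr_self cs hp.isCartan (hR i j hij)] at h1
    unfold dl4 at h1
    simp [Ne.symm hip, Ne.symm hjp, Ne.symm hiq, Ne.symm hjq] at h1
  · have hx' := (rt_iff hp cs).1 hx
    have h1 : cpr cs hp.isCartan ((m : ℤ) • (ev i - ev j) + (n' : ℤ) • (ev p - ev q)) (ev i - ev j) = 2 * m := by
      rw [cpr_add cs hp.isCartan _ _ (hR i j hij), cpr_smul cs hp.isCartan _ _ (hR i j hij),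
        cpr_smul cs hp.isCartan _ _ (hR i j hij), cpr_self cs hp.isCartan (hR i j hij), hc p q i j hij]
      unfold dl4
      simp [Ne.symm hip, Ne.symm hjp, Ne.symm hiq, Ne.symm hjq]
      ring
    have h2 : cpr cs hp.isCartan ((m : ℤ) • (ev i - ev j) + (n' : ℤ) • (ev p - ev q)) (ev p - ev q) = 2 * n' := by
      rw [cpr_add cs hp.isCartan _ _ (hR p q hpq), cpr_smul cs hp.isCartan _ _ (hR p q hpq),
        cpr_smul cs hp.isCartan _ _ (hR p q hpq), cpr_self cs hp.isCartan (hR p q hpq), hc i j p q hpq]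
      unfold dl4
      simp [hip, hjp, hiq, hjq]
      ring
    have e1 := eq_of_cpr_two hp cs hsl hx' (hR i j hij) (by rw [h1]; omega)
    have e2 := eq_of_cpr_two hp cs hsl hx' (hR p q hpq) (by rw [h2]; omega)
    have h3 := hc i j p q hpq
    rw [← e1, h2] at h3
    unfold dl4 at h3
    simp [hip, hjp, hiq, hjq] at h3
    omega

include hp in
/-- **the frame of an element of order 5** -/
theorem afr_of_five [Fintype W] (hsl : slT D = true) (hG : D ≠ chevG2) {a : Fin l → ℤ} (ha : IsRoot cs hp.isCartan a)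
    {w : W} {c : Fin 5 → Fin l → ℤ} (hc0 : c 0 = a) (hc : ∀ j, c (j + 1) = rep cs hp.isCartan w (c j))
    (hs : c 0 + c 1 + c 2 + c 3 + c 4 = 0) (h1 : cpr cs hp.isCartan (c 1) (c 0) = -1) {ev : Fin 5 → Fin l → ℤ}
    (hev : ∀ j, ev j - ev (j + 1) = c j) : AFr D l ev := by
  set F := form cs hp.isCartan a a with hFdef
  have hF : 0 < F := form_pos cs hp.isCartan ha.ne_zero
  have hcR : ∀ j, IsRoot cs hp.isCartan (c j) := by
    have h01 : IsRoot cs hp.isCartan (c 0) := by rw [hc0]; exact ha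
    have h11 : IsRoot cs hp.isCartan (c 1) := by have := h01.act w; rwa [← hc 0] at this
    have h21 : IsRoot cs hp.isCartan (c 2) := by have := h11.act w; rwa [← hc 1] at this
    have h31 : IsRoot cs hp.isCartan (c 3) := by have := h21.act w; rwa [← hc 2] at this
    have h41 : IsRoot cs hp.isCartan (c 4) := by have := h31.act w; rwa [← hc 3] at this
    intro j
    fin_cases j <;> assumption
  have hf : ∀ i j, form cs hp.isCartan (c (i + 1)) (c (j + 1)) = form cs hp.isCartan (c i) (c j) := fun i j => by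
    rw [hc, hc, form_rep]
  -- the Gram matrix
  set f := fun i j => 2 * form cs hp.isCartan (c i) (c j) with hfdef
  have hf1 : ∀ i j, f (i + 1) (j + 1) = f i j := fun i j => by
    simp only [hfdef]; rw [hf]
  have hfs : ∀ i j, f i j = f j i := fun i j => by
    simp only [hfdef]; rw [form_comm]
  have f00 : f 0 0 = F * 2 := by simp only [hfdef]; rw [hc0]; ring
  have f10 : f 1 0 = F * (-1) := by
    simp only [hfdef]
    rw [two_form_cpr cs hp.isCartan _ (hcR 0), h1, hc0]; ring
  have f01 : f 0 1 = F * (-1) := by rw [hfs, f10]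
  have f40 : f 4 0 = F * (-1) := by rw [← hf1 4 0]; exact f01
  have f30 : f 3 0 = f 2 0 := by
    rw [← hf1 3 0, ← hf1 (3 + 1) (0 + 1)]
    exact hfs 0 2
  have fsum : f 0 0 + f 1 0 + f 2 0 + f 3 0 + f 4 0 = 0 := by
    simp only [hfdef]
    have h2 : form cs hp.isCartan (c 0 + c 1 + c 2 + c 3 + c 4) (c 0) = 0 := by
      rw [hs, form_comm, form_zero_right]
    simp only [form_add_left] at h2
    linarith
  have f20 : f 2 0 = 0 := by rw [f00, f10, f30, f40] at fsum; linarith
  rw [f20] at f30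
  have f02 : f 0 2 = 0 := by rw [hfs, f20]
  have f03 : f 0 3 = 0 := by rw [hfs, f30]
  have f11 : f 1 1 = F * 2 := (hf1 0 0).trans f00
  have f22 : f 2 2 = F * 2 := (hf1 1 1).trans f11
  have f33 : f 3 3 = F * 2 := (hf1 2 2).trans f22
  have f21 : f 2 1 = F * (-1) := (hf1 1 0).trans f10
  have f12 : f 1 2 = F * (-1) := by rw [hfs, f21]
  have f32 : f 3 2 = F * (-1) := (hf1 2 1).trans f21
  have f23 : f 2 3 = F * (-1) := by rw [hfs, f32]
  have f31 : f 3 1 = 0 := (hf1 2 0).trans f20
  have f13 : f 1 3 = 0 := by rw [hfs, f31]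
  -- the vectors
  have v0 : ev 0 - ev 0 = 0 := sub_self _
  have e0 := hev 0
  have e1 := hev 1
  have e2 := hev 2
  have e3 := hev 3
  have v1 : ev 1 - ev 0 = -(c 0) := by
    rw [← e0]; simp
  have v2 : ev 2 - ev 0 = -(c 0) - c 1 := by
    have : ev 2 - ev 0 = -(ev 0 - ev (0 + 1)) - (ev 1 - ev (1 + 1)) := by
      simp only [zero_add]
      have h12 : (1 : Fin 5) + 1 = 2 := rfl
      rw [h12]; module
    rw [this, e0, e1]
  have v3 : ev 3 - ev 0 = -(c 0) - c 1 - c 2 := by
    have : ev 3 - ev 0 = (ev 2 - ev 0) - (ev 2 - ev (2 + 1)) := by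
      have h12 : (2 : Fin 5) + 1 = 3 := rfl
      rw [h12]; module
    rw [this, e2, v2]
  have v4 : ev 4 - ev 0 = -(c 0) - c 1 - c 2 - c 3 := by
    have : ev 4 - ev 0 = (ev 3 - ev 0) - (ev 3 - ev (3 + 1)) := by
      have h12 : (3 : Fin 5) + 1 = 4 := rfl
      rw [h12]; module
    rw [this, e3, v3]
  let m : Fin 5 → Fin 4 → ℤ := fun i t => if (t : ℕ) < i then -1 else 0
  have hV : ∀ i, ev i - ev 0 = m i 0 • c 0 + m i 1 • c 1 + m i 2 • c 2 + m i 3 • c 3 := by
    intro i
    fin_cases i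
    · show ev 0 - ev 0 = (0 : ℤ) • c 0 + (0 : ℤ) • c 1 + (0 : ℤ) • c 2 + (0 : ℤ) • c 3
      rw [v0]; module
    · show ev 1 - ev 0 = (-1 : ℤ) • c 0 + (0 : ℤ) • c 1 + (0 : ℤ) • c 2 + (0 : ℤ) • c 3
      rw [v1]; module
    · show ev 2 - ev 0 = (-1 : ℤ) • c 0 + (-1 : ℤ) • c 1 + (0 : ℤ) • c 2 + (0 : ℤ) • c 3
      rw [v2]; module
    · show ev 3 - ev 0 = (-1 : ℤ) • c 0 + (-1 : ℤ) • c 1 + (-1 : ℤ) • c 2 + (0 : ℤ) • c 3
      rw [v3]; module
    · show ev 4 - ev 0 = (-1 : ℤ) • c 0 + (-1 : ℤ) • c 1 + (-1 : ℤ) • c 2 + (-1 : ℤ) • c 3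
      rw [v4]; module
  have key : ∀ i p : Fin 5,
      m i 0 * m p 0 * 2 + m i 0 * m p 1 * (-1) + m i 1 * m p 0 * (-1) + m i 1 * m p 1 * 2 + m i 1 * m p 2 * (-1) +
        m i 2 * m p 1 * (-1) + m i 2 * m p 2 * 2 + m i 2 * m p 3 * (-1) + m i 3 * m p 2 * (-1) + m i 3 * m p 3 * 2 =
        dl4 i 0 p 0 := by
    decide
  have hB0 : ∀ i p : Fin 5, 2 * form cs hp.isCartan (ev i - ev 0) (ev p - ev 0) = F * dl4 i 0 p 0 := by
    intro i p
    rw [hV i, hV p, ← key i p]
    simp only [form_add_left, form_add_right, form_smul_left, form_smul_right]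
    simp only [hfdef] at f00 f01 f02 f03 f10 f11 f12 f13 f20 f21 f22 f23 f30 f31 f32 f33
    linear_combination (m i 0 * m p 0) * f00 + (m i 0 * m p 1) * f01 + (m i 0 * m p 2) * f02 + (m i 0 * m p 3) * f03 +
      (m i 1 * m p 0) * f10 + (m i 1 * m p 1) * f11 + (m i 1 * m p 2) * f12 + (m i 1 * m p 3) * f13 +
      (m i 2 * m p 0) * f20 + (m i 2 * m p 1) * f21 + (m i 2 * m p 2) * f22 + (m i 2 * m p 3) * f23 +
      (m i 3 * m p 0) * f30 + (m i 3 * m p 1) * f31 + (m i 3 * m p 2) * f32 + (m i 3 * m p 3) * f33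
  have hB : ∀ i j p q, 2 * form cs hp.isCartan (ev i - ev j) (ev p - ev q) = F * dl4 i j p q := by
    intro i j p q
    have a1 : ev i - ev j = (ev i - ev 0) - (ev j - ev 0) := by module
    have a2 : ev p - ev q = (ev p - ev 0) - (ev q - ev 0) := by module
    rw [a1, a2]
    simp only [form_sub_left, form_sub_right]
    have b1 := hB0 i p
    have b2 := hB0 i q
    have b3 := hB0 j p
    have b4 := hB0 j q
    have b5 : dl4 i j p q = dl4 i 0 p 0 - dl4 i 0 q 0 - dl4 j 0 p 0 + dl4 j 0 q 0 := by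
      unfold dl4; ring
    rw [b5]
    simp only [form_sub_left, form_sub_right] at b1 b2 b3 b4
    linear_combination b1 - b2 - b3 + b4
  refine afr_of_gram hp cs hsl hG ?_ hB
  -- the roots
  have hc1 : ∀ i, cpr cs hp.isCartan (c i) (c (i + 1)) = -1 := by
    intro i
    apply cpr_eq_of_form cs hp.isCartan (hcR _)
    rw [← hev i, ← hev (i + 1), hB]
    have h2 := hB (i + 1) (i + 1 + 1) (i + 1) (i + 1 + 1)
    have h3 : ∀ i : Fin 5, dl4 i (i + 1) (i + 1) (i + 1 + 1) = -1 := by decide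
    have h4 : ∀ i : Fin 5, dl4 (i + 1) (i + 1 + 1) (i + 1) (i + 1 + 1) = 2 := by decide
    rw [h4] at h2
    rw [h3]
    linarith
  have hR2 : ∀ i, IsRoot cs hp.isCartan (ev i - ev (i + 1 + 1)) := by
    intro i
    have h2 := isRoot_refl cs hp.isCartan (hcR i) (hcR (i + 1))
    rw [hc1, neg_one_smul, sub_neg_eq_add, ← hev i, ← hev (i + 1)] at h2
    have e : ev i - ev (i + 1) + (ev (i + 1) - ev (i + 1 + 1)) = ev i - ev (i + 1 + 1) := by module
    rwa [e] at h2
  have hR1 : ∀ i, IsRoot cs hp.isCartan (ev i - ev (i + 1)) := fun i => by rw [hev]; exact hcR i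
  intro i j hij
  have h4 : ∀ i j : Fin 5, i ≠ j → j = i + 1 ∨ j = i + 1 + 1 ∨ i = j + 1 ∨ i = j + 1 + 1 := by decide
  rcases h4 i j hij with e | e | e | e
  · rw [e]; exact hR1 i
  · rw [e]; exact hR2 i
  · have := (hR1 j).neg
    rwa [neg_sub, ← e] at this
  · have := (hR2 j).neg
    rwa [neg_sub, ← e] at this

end Cfsg.Agent.H46.Gen
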