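import Mathlib
import Cfsg.Prelude.Def_Transfer

/-!
# A module is the sum of the fixed spaces of the elements of a non-cyclic elementary abelian group
(helper46, for S2187)

No roots of unity are needed: for commuting `A`, `B` with `A ^ p = B ^ p = 1`,
`p v = ∑ i, N (A ^ i B) v - ∑ j > 0, B ^ j (N (A ^ j) v)`, where `N C v = ∑ j < p, C ^ j v` is fixed by `C`.
-/

set_option autoImplicit false

namespace Cfsg.Agent.H46.Gen

open Finset

section End

variable {k V : Type*} [CommRing k] [AddCommGroup V] [Module k V]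

/-- the norm is fixed -/
theorem norm_fixed {C : Module.End k V} {p : ℕ} (hC : C ^ p = 1) (v : V) :
    C (∑ j ∈ range p, (C ^ j) v) = ∑ j ∈ range p, (C ^ j) v := by
  rw [map_sum]
  have h1 : ∑ j ∈ range p, C ((C ^ j) v) = ∑ j ∈ range p, (C ^ (j + 1)) v := by
    refine sum_congr rfl fun j _ => ?_
    rw [pow_succ']
    rfl
  have h2 := sum_range_succ (fun j => (C ^ j) v) p
  have h3 := sum_range_succ' (fun j => (C ^ j) v) p
  rw [h3, hC, pow_zero] at h2
  rw [h1]
  exact add_right_cancel h2

/-- **`p v` is a sum of vectors fixed by `A ^ i B` (`i < p`) and by `A`**, inside an invariant subspace `U` -/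
theorem smul_mem_of_inv {A B : Module.End k V} (hAB : Commute A B) {p : ℕ} (hp : p.Prime) (hA : A ^ p = 1)
    (hB : B ^ p = 1) {S U : Submodule k V} (hAU : ∀ u ∈ U, A u ∈ U) (hBU : ∀ u ∈ U, B u ∈ U)
    (h1 : ∀ v ∈ U, A v = v → v ∈ S) (h2 : ∀ i < p, ∀ v ∈ U, (A ^ i * B) v = v → v ∈ S) {v : V} (hv : v ∈ U) :
    (p : k) • v ∈ S := by
  have hpow : ∀ C : Module.End k V, (∀ u ∈ U, C u ∈ U) → ∀ j : ℕ, ∀ u ∈ U, (C ^ j) u ∈ U := by
    intro C hC j
    induction j with
    | zero => intro u hu; exact hu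
    | succ j ih =>
      intro u hu
      rw [pow_succ]
      exact ih _ (hC u hu)
  have e1 : ∑ i ∈ range p, ∑ j ∈ range p, ((A ^ i * B) ^ j) v =
      ∑ j ∈ range p, (B ^ j) (∑ i ∈ range p, ((A ^ j) ^ i) v) := by
    rw [sum_comm]
    refine sum_congr rfl fun j _ => ?_
    rw [map_sum]
    refine sum_congr rfl fun i _ => ?_
    rw [(hAB.pow_left i).mul_pow, (((hAB.pow_left i).pow_left j).pow_right j).eq, ← pow_mul, mul_comm i j, pow_mul]
    rfl
  have hp1 : range p = insert 0 (Ico 1 p) := by
    ext j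
    rw [mem_range, mem_insert, mem_Ico]
    have := hp.pos
    omega
  have e2 : ∑ j ∈ range p, (B ^ j) (∑ i ∈ range p, ((A ^ j) ^ i) v) =
      (p : k) • v + ∑ j ∈ Ico 1 p, (B ^ j) (∑ i ∈ range p, ((A ^ j) ^ i) v) := by
    have e4 : (B ^ 0) (∑ i ∈ range p, ((A ^ 0) ^ i) v) = (p : k) • v := by
      simp only [pow_zero, one_pow, Module.End.one_apply, sum_const, card_range]
      rw [Nat.cast_smul_eq_nsmul]
    have e5 : ∀ f : ℕ → V, ∑ j ∈ range p, f j = f 0 + ∑ j ∈ Ico 1 p, f j := by
      intro f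
      rw [hp1, sum_insert (by simp)]
    rw [e5, e4]
  have m1 : ∑ i ∈ range p, ∑ j ∈ range p, ((A ^ i * B) ^ j) v ∈ S := by
    refine S.sum_mem fun i hi => h2 i (mem_range.1 hi) _ (U.sum_mem fun j _ => hpow _ ?_ j v hv) (norm_fixed ?_ v)
    · intro u hu
      exact hpow A hAU i _ (hBU u hu)
    · rw [(hAB.pow_left i).mul_pow, hB, mul_one, ← pow_mul, mul_comm, pow_mul, hA, one_pow]
  have m2 : ∑ j ∈ Ico 1 p, (B ^ j) (∑ i ∈ range p, ((A ^ j) ^ i) v) ∈ S := by
    refine S.sum_mem fun j hj => h1 _ (hpow B hBU j _ (U.sum_mem fun i _ => ?_)) ?_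
    · exact hpow _ (fun u hu => hpow A hAU j u hu) i v hv
    obtain ⟨hj1, hj2⟩ := mem_Ico.1 hj
    set w := ∑ i ∈ range p, ((A ^ j) ^ i) v with hw
    have hw1 : (A ^ j) w = w := norm_fixed (by rw [← pow_mul, mul_comm, pow_mul, hA, one_pow]) v
    have hw2 : ∀ m : ℕ, ((A ^ j) ^ m) w = w := by
      intro m
      induction m with
      | zero => rfl
      | succ m ih =>
        rw [pow_succ]
        change ((A ^ j) ^ m) ((A ^ j) w) = w
        rw [hw1, ih]
    have hcop : Nat.Coprime j p := by
      rw [Nat.coprime_comm, Nat.Prime.coprime_iff_not_dvd hp]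
      intro h
      have := Nat.le_of_dvd (by omega) h
      omega
    obtain ⟨m, -, hm⟩ := Nat.exists_mul_mod_eq_one_of_coprime hcop hp.one_lt
    have hAm : A ^ (j * m) = A := by
      conv_lhs => rw [← Nat.div_add_mod (j * m) p, hm, pow_add, pow_mul, hA, one_pow, one_mul, pow_one]
    have hw3 : A w = w := by
      have := hw2 m
      rwa [← pow_mul, hAm] at this
    change A ((B ^ j) w) = (B ^ j) w
    have h3 : A * B ^ j = B ^ j * A := (hAB.pow_right j).eq
    calc A ((B ^ j) w) = (A * B ^ j) w := rfl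
      _ = (B ^ j) (A w) := by rw [h3]; rfl
      _ = (B ^ j) w := by rw [hw3]
  have e3 : (p : k) • v = ∑ i ∈ range p, ∑ j ∈ range p, ((A ^ i * B) ^ j) v -
      ∑ j ∈ Ico 1 p, (B ^ j) (∑ i ∈ range p, ((A ^ j) ^ i) v) := by
    rw [e1, e2]
    abel
  rw [e3]
  exact S.sub_mem m1 m2

/-- **`p v` is a sum of vectors fixed by `A ^ i B` (`i < p`) and by `A`** -/
theorem smul_mem {A B : Module.End k V} (hAB : Commute A B) {p : ℕ} (hp : p.Prime) (hA : A ^ p = 1)
    (hB : B ^ p = 1) {S : Submodule k V} (h1 : ∀ v, A v = v → v ∈ S)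
    (h2 : ∀ i < p, ∀ v, (A ^ i * B) v = v → v ∈ S) (v : V) : (p : k) • v ∈ S :=
  smul_mem_of_inv (U := ⊤) hAB hp hA hB (fun _ _ => trivial) (fun _ _ => trivial) (fun v _ => h1 v)
    (fun i hi v _ => h2 i hi v) trivial

end End

section Rep

variable {k V : Type*} [Field k] [AddCommGroup V] [Module k V]

/-- **generation by two elements**: every subspace containing the fixed vectors of `a` and of all `a ^ i b` is
everything -/
theorem eq_top_of_pair {E : Type*} [Group E] (ρ : E →* Module.End k V) {a b : E} (hab : Commute a b) {p : ℕ}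
    (hp : p.Prime) (hpk : (p : k) ≠ 0) (ha : a ^ p = 1) (hb : b ^ p = 1) {S : Submodule k V}
    (h1 : ∀ v, ρ a v = v → v ∈ S) (h2 : ∀ i < p, ∀ v, ρ (a ^ i * b) v = v → v ∈ S) : S = ⊤ := by
  rw [eq_top_iff]
  intro v _
  have hAB : Commute (ρ a) (ρ b) := hab.map ρ
  have h3 := smul_mem hAB hp (by rw [← map_pow, ha, map_one]) (by rw [← map_pow, hb, map_one]) h1
    (fun i hi v hv => h2 i hi v (by rw [map_mul, map_pow]; exact hv)) v
  have h4 := S.smul_mem (p : k)⁻¹ h3
  rwa [smul_smul, inv_mul_cancel₀ hpk, one_smul] at h4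

/-- an elementary abelian group of order at least `p²` contains two independent elements -/
theorem exists_pair {G : Type*} [Group G] {p : ℕ} (hp : p.Prime) {E : Subgroup G}
    (hE : IsElementaryAbelian p E) (hcard : p ^ 2 ≤ Nat.card E) :
    ∃ a ∈ E, ∃ b ∈ E, Commute a b ∧ a ≠ 1 ∧ b ∉ Subgroup.zpowers a ∧ (∀ i, a ^ i * b ≠ 1) := by
  have hcomm : ∀ x ∈ E, ∀ y ∈ E, Commute x y := by
    intro x hx y hy
    have h1 := hE.1.is_comm.comm (⟨x, hx⟩ : E) ⟨y, hy⟩
    exact congrArg Subtype.val h1
  have hfin : Finite E := Nat.finite_of_card_ne_zero (by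
    have : 0 < p ^ 2 := pow_pos hp.pos 2
    omega)
  have hp1 := hp.one_lt
  have hp2 : p < p ^ 2 := by nlinarith
  obtain ⟨a, ha, ha1⟩ : ∃ a ∈ E, a ≠ 1 := by
    by_contra hcon
    push Not at hcon
    have h1 : E = ⊥ := (Subgroup.eq_bot_iff_forall E).2 hcon
    rw [h1, Subgroup.card_bot] at hcard
    omega
  have hao : orderOf a = p := orderOf_eq_prime (hE.2 a ha) ha1
    (hp := ⟨hp⟩)
  obtain ⟨b, hb, hba⟩ : ∃ b ∈ E, b ∉ Subgroup.zpowers a := by
    by_contra hcon
    push Not at hcon
    have hle : E ≤ Subgroup.zpowers a := hcon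
    have hfz : Finite (Subgroup.zpowers a) := Nat.finite_of_card_ne_zero (by
      rw [Nat.card_zpowers, hao]; exact hp.ne_zero)
    have h1 := Nat.card_le_card_of_injective _ (Subgroup.inclusion_injective hle)
    rw [Nat.card_zpowers, hao] at h1
    omega
  refine ⟨a, ha, b, hb, hcomm a ha b hb, ha1, hba, fun i hi => hba ?_⟩
  have : b = (a ^ i)⁻¹ := (inv_eq_of_mul_eq_one_right hi).symm
  rw [this]
  exact (Subgroup.zpowers a).inv_mem ((Subgroup.zpowers a).pow_mem (Subgroup.mem_zpowers a) i)

/-- **a module is generated by the fixed vectors of the nontrivial elements of an elementary abelian group of order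
at least `p²`** (a subgroup `E` of any group acting on `V`) -/
theorem eq_top_of_fixed {G : Type*} [Group G] (ρ : G →* Module.End k V) {p : ℕ} (hp : p.Prime)
    (hpk : (p : k) ≠ 0) {E : Subgroup G} (hE : IsElementaryAbelian p E) (hcard : p ^ 2 ≤ Nat.card E)
    {S : Submodule k V} (h : ∀ x ∈ E, x ≠ 1 → ∀ v, ρ x v = v → v ∈ S) : S = ⊤ := by
  obtain ⟨a, ha, b, hb, hab, ha1, -, hne⟩ := exists_pair hp hE hcard
  exact eq_top_of_pair ρ hab hp hpk (hE.2 a ha) (hE.2 b hb) (h a ha ha1)
    (fun i _ v hv => h _ (E.mul_mem (E.pow_mem ha i) hb) (hne i) v hv)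

/-- the same with spans -/
theorem span_fixed {G : Type*} [Group G] (ρ : G →* Module.End k V) {p : ℕ} (hp : p.Prime)
    (hpk : (p : k) ≠ 0) {E : Subgroup G} (hE : IsElementaryAbelian p E) (hcard : p ^ 2 ≤ Nat.card E) :
    Submodule.span k {v : V | ∃ x ∈ E, x ≠ 1 ∧ ρ x v = v} = ⊤ :=
  eq_top_of_fixed ρ hp hpk hE hcard fun x hx hx1 _ hv => Submodule.subset_span ⟨x, hx, hx1, hv⟩

/-- a subgroup complemented by an element of order `p` has index `p` -/
theorem index_eq {E : Type*} [CommGroup E] {p : ℕ} (hp : p.Prime) (hexp : ∀ x : E, x ^ p = 1) {D : Subgroup E}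
    {c : E} (hc : c ∉ D) (h : D ⊔ Subgroup.zpowers c = ⊤) : D.index = p := by
  have h1 : orderOf (QuotientGroup.mk c : E ⧸ D) = p := by
    apply orderOf_eq_prime (hp := ⟨hp⟩)
    · rw [← QuotientGroup.mk_pow, hexp, QuotientGroup.mk_one]
    · intro h0
      exact hc ((QuotientGroup.eq_one_iff c).1 h0)
  rw [Subgroup.index, ← h1, orderOf_eq_card_of_forall_mem_zpowers]
  intro x
  obtain ⟨y, rfl⟩ := QuotientGroup.mk_surjective x
  have hy : y ∈ D ⊔ Subgroup.zpowers c := by rw [h]; trivial
  obtain ⟨d, hd, z, ⟨i, hi⟩, hz⟩ := Subgroup.mem_sup.1 hy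
  refine ⟨i, ?_⟩
  rw [← hz, QuotientGroup.mk_mul, (QuotientGroup.eq_one_iff d).2 hd, one_mul, ← hi]
  rfl

/-- **`V` is spanned by the vectors fixed by the hyperplanes of `E`** -/
theorem eq_top_of_index {E : Type*} [CommGroup E] [Finite E] (ρ : E →* Module.End k V) {p : ℕ} (hp : p.Prime)
    (hpk : (p : k) ≠ 0) (hexp : ∀ x : E, x ^ p = 1) (hne : Nontrivial E) {S : Submodule k V}
    (h : ∀ F : Subgroup E, F.index = p → ∀ v, (∀ x ∈ F, ρ x v = v) → v ∈ S) : S = ⊤ := by
  classical
  have key : ∀ n : ℕ, ∀ D : Subgroup E, D ≠ ⊤ → D.index = n → ∀ v, (∀ x ∈ D, ρ x v = v) → v ∈ S := by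
    intro n
    induction n using Nat.strong_induction_on with
    | _ n ih =>
      intro D hD hn v hv
      obtain ⟨a, ha⟩ : ∃ a : E, a ∉ D := by
        by_contra hcon
        push Not at hcon
        exact hD ((Subgroup.eq_top_iff' D).2 hcon)
      by_cases htop : D ⊔ Subgroup.zpowers a = ⊤
      · exact h D (index_eq hp hexp ha htop) v hv
      · obtain ⟨b, hb⟩ : ∃ b : E, b ∉ D ⊔ Subgroup.zpowers a := by
          by_contra hcon
          push Not at hcon
          exact htop ((Subgroup.eq_top_iff' _).2 hcon)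
        -- the fixed space of `D`
        let U : Submodule k V :=
          { carrier := {w | ∀ x ∈ D, ρ x w = w}
            add_mem' := fun {u w} hu hw x hx => by rw [map_add, hu x hx, hw x hx]
            zero_mem' := fun x _ => map_zero _
            smul_mem' := fun c w hw x hx => by rw [map_smul, hw x hx] }
        have hinv : ∀ c : E, ∀ u ∈ U, ρ c u ∈ U := by
          intro c u hu x hx
          have h1 : ρ x (ρ c u) = (ρ (x * c)) u := by rw [map_mul]; rfl
          rw [h1, mul_comm, map_mul]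
          change ρ c (ρ x u) = ρ c u
          rw [hu x hx]
        have hstep : ∀ c : E, c ∉ D → D ⊔ Subgroup.zpowers c ≠ ⊤ → ∀ w ∈ U, ρ c w = w → w ∈ S := by
          intro c hc hct w hw hcw
          have hlt : D < D ⊔ Subgroup.zpowers c := by
            refine lt_of_le_of_ne le_sup_left fun h0 => hc ?_
            rw [h0]
            exact (le_sup_right : _ ≤ D ⊔ Subgroup.zpowers c) (Subgroup.mem_zpowers c)
          refine ih _ ?_ _ hct rfl w fun x hx => ?_
          · rw [← hn]
            exact Subgroup.index_strictAnti hlt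
          · obtain ⟨d, hd, z, ⟨i, hi⟩, hz⟩ := Subgroup.mem_sup.1 hx
            have h1 : ρ z w = w := by
              have hmem : z ∈ (MulAction.stabilizer (Module.End k V)ˣ w).comap
                  (ρ.toHomUnits) := by
                rw [← hi]
                apply Subgroup.zpow_mem
                rw [Subgroup.mem_comap, MulAction.mem_stabilizer_iff]
                exact hcw
              rw [Subgroup.mem_comap, MulAction.mem_stabilizer_iff] at hmem
              exact hmem
            rw [← hz, map_mul]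
            change ρ d (ρ z w) = w
            rw [h1, hw d hd]
        have hp0 := smul_mem_of_inv (A := ρ a) (B := ρ b) (S := S) (U := U) ((Commute.all a b).map ρ) hp
          (by rw [← map_pow, hexp, map_one]) (by rw [← map_pow, hexp, map_one]) (hinv a) (hinv b)
          (hstep a ha htop) (fun i _ w hw hi => by
            have hbD : a ^ i * b ∉ D := by
              intro hcon
              apply hb
              have h1 : b = (a ^ i)⁻¹ * (a ^ i * b) := by group
              rw [h1]
              exact mul_mem (inv_mem (pow_mem ((le_sup_right : _ ≤ D ⊔ Subgroup.zpowers a)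
                (Subgroup.mem_zpowers a)) i)) ((le_sup_left : D ≤ D ⊔ Subgroup.zpowers a) hcon)
            refine hstep (a ^ i * b) hbD (fun hct => ?_) w hw (by rw [map_mul, map_pow]; exact hi)
            have h1 := index_eq hp hexp hbD hct
            have h2 : (D ⊔ Subgroup.zpowers a).index ∣ p := by
              rw [← h1]
              exact Subgroup.index_dvd_of_le le_sup_left
            rcases (Nat.dvd_prime hp).1 h2 with h3 | h3
            · exact htop (Subgroup.index_eq_one.1 h3)
            · have hlt : D < D ⊔ Subgroup.zpowers a := by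
                refine lt_of_le_of_ne le_sup_left fun h0 => ha ?_
                rw [h0]
                exact (le_sup_right : _ ≤ D ⊔ Subgroup.zpowers a) (Subgroup.mem_zpowers a)
              have h4 := Subgroup.index_strictAnti hlt
              rw [h3, h1] at h4
              exact lt_irrefl _ h4) (show v ∈ U from hv)
        have h4 := S.smul_mem (p : k)⁻¹ hp0
        rwa [smul_smul, inv_mul_cancel₀ hpk, one_smul] at h4
  rw [eq_top_iff]
  intro v _
  refine key _ ⊥ (bot_ne_top) rfl v fun x hx => ?_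
  rw [Subgroup.mem_bot.1 hx, map_one]
  rfl

/-- the same for a subgroup `E` of a group acting on `V`, in the form of `Gam`/`GamY` (hyperplanes `F ≤ E` with
`F.relIndex E = p`) -/
theorem eq_top_of_hyperplanes {G : Type*} [Group G] (ρ : G →* Module.End k V) {p : ℕ} (hp : p.Prime)
    (hpk : (p : k) ≠ 0) {E : Subgroup G} [Finite E] (hE : IsElementaryAbelian p E) (hne : E ≠ ⊥)
    {S : Submodule k V}
    (h : ∀ F : Subgroup G, F ≤ E → F.relIndex E = p → ∀ v, (∀ x ∈ F, ρ x v = v) → v ∈ S) : S = ⊤ := by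
  let _ : CommGroup E := { (inferInstance : Group E) with mul_comm := hE.1.is_comm.comm }
  have hnt : Nontrivial E := (Subgroup.nontrivial_iff_ne_bot E).2 hne
  refine eq_top_of_index (E := E) (ρ.comp E.subtype) hp hpk (fun x => Subtype.ext (hE.2 x x.2)) hnt
    fun F hF v hv => ?_
  refine h (F.map E.subtype) (Subgroup.map_subtype_le F) ?_ v ?_
  · rw [Subgroup.relIndex, Subgroup.subgroupOf, Subgroup.comap_map_eq_self_of_injective E.subtype_injective]
    exact hF
  · rintro _ ⟨x, hx, rfl⟩
    exact hv x hx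

end Rep

end Cfsg.Agent.H46.Gen
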